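import Cfsg.Agent.Lib.CoreKill.Local.Form
import Cfsg.Agent.Lib.RankOne.Basic
import Cfsg.Agent.Lib.RankOne.Central

/-!
No member in `C`: `R` is quaternion, `C` is quaternion of order eight, there are five points, and every member
centralises two involutions with a product of order four.

Blueprint: `blueprint/bender/CoreKill.md`, 2.
-/

set_option autoImplicit false
set_option linter.unusedSectionVars false
set_option linter.style.haveILetI false

namespace CfsgLib.CoreKill.Local

open Cfsg MulAction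
open CfsgLib.Bender.TwoClosed (IsInv)
open CfsgLib.Bender.Q (permGrp permImg permImg_eq_one)

universe u

variable {X : Type u} [Group X] [Finite X] {H : Subgroup X} {P : Sylow 2 X} {t : X}

namespace Frame

variable {L : Subgroup (permGrp X (X ⧸ H))} (F : Frame H P t L)
include F

/-- The regular group at the base point holds the 2-elements of the stabiliser and is normalised by what fixes the
base point. -/
theorem mem_reg {τ : ↥L} {Q : Subgroup ↥L} (hS : IsRankOneSetup ↥L (X ⧸ H) (base H) τ Q) (hQ2 : IsPGroup 2 Q) :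
    (∀ z : ↥L, z • base H = base H → (∃ i : ℕ, z ^ 2 ^ i = 1) → z ∈ Q) ∧
      ∀ {g : permGrp X (X ⧸ H)}, g • base H = base H → ∀ {z : ↥L}, z ∈ Q →
        (⟨g * z * g⁻¹, F.normal.conj_mem _ z.2 g⟩ : ↥L) ∈ Q := by
  haveI := F.faithful
  have hsyl : ∀ z : ↥L, z • base H = base H → (∃ i : ℕ, z ^ 2 ^ i = 1) → z ∈ Q := by
    rintro z hz ⟨i, hi⟩
    set A := stabilizer ↥L (base H)
    haveI hn : (Q.subgroupOf A).Normal := ⟨fun x hx g => hS.conj_mem g g.2 x hx⟩
    have hodd : Odd (Q.subgroupOf A).index := by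
      have h1 := (Q.subgroupOf A).card_mul_index
      rw [Nat.card_congr (Subgroup.subgroupOfEquivOfLe hS.le).toEquiv, RankOne.card_stab hS] at h1
      rw [Nat.eq_of_mul_eq_mul_left Nat.card_pos h1]
      exact hS.odd_card
    have h3 : (⟨z, hz⟩ : A) ^ (Q.subgroupOf A).index ∈ Q.subgroupOf A := Subgroup.pow_index_mem _ _
    have h4 := orderOf_eq_one_iff.mp (Nat.eq_one_of_dvd_coprimes
      ((Nat.coprime_two_right.mpr hodd).pow_right i)
      (orderOf_dvd_of_pow_eq_one (x := ((⟨z, hz⟩ : A) : A ⧸ Q.subgroupOf A))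
        (by rw [← QuotientGroup.mk_pow]; exact (QuotientGroup.eq_one_iff _).mpr h3))
      (orderOf_dvd_of_pow_eq_one (by rw [← QuotientGroup.mk_pow,
        show (⟨z, hz⟩ : A) ^ 2 ^ i = 1 from Subtype.ext hi, QuotientGroup.mk_one])))
    exact (QuotientGroup.eq_one_iff (N := Q.subgroupOf A) (⟨z, hz⟩ : A)).mp h4
  refine ⟨hsyl, fun {g} hg {z} hz => hsyl _ ?_ ?_⟩
  · show (g * (z : permGrp X (X ⧸ H)) * g⁻¹) • base H = base H
    rw [mul_smul, mul_smul, inv_smul_eq_iff.mpr hg.symm,
      show (z : permGrp X (X ⧸ H)) • base H = base H from mem_stabilizer_iff.mp (hS.le hz), hg]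
  · obtain ⟨i, hi⟩ := hQ2 ⟨z, hz⟩
    refine ⟨i, Subtype.ext ?_⟩
    show (g * (z : permGrp X (X ⧸ H)) * g⁻¹) ^ 2 ^ i = 1
    rw [conj_pow, ← SubmonoidClass.coe_pow, show z ^ 2 ^ i = 1 from congrArg Subtype.val hi, Subgroup.coe_one,
      mul_one, mul_inv_cancel]

end Frame

namespace Frame

variable {L : Subgroup (permGrp X (X ⧸ H))} (F : Frame H P t L) (hno : ∀ c ∈ covC P L, IsInv c → c = t)
  {u : X} (hu : u ∈ (P : Subgroup X)) (hui : IsInv u) (hut : u ≠ t)
include F hno hu hui hut

/-- Then `R` is not abelian. -/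
theorem kerR_noncomm : ∃ a ∈ kerR H P, ∃ b ∈ kerR H P, ¬ Commute a b := by
  by_contra hcon
  push Not at hcon
  obtain ⟨r, hr, c, hc, rfl, -, -⟩ := F.member_decomp hu hui hut
  exact hut (hno _ (mul_mem (mem_covC.mpr ⟨hr.1, fun r' hr' => hcon r hr r' hr',
    by rw [img_mem_core.mpr hr.2]; exact one_mem _⟩) hc) hui)

theorem covC_inf {c : X} (hc : c ∈ covC P L) (hc1 : img H c = 1) : c = 1 ∨ c = t := by
  obtain ⟨a, ha, b, hb, hab⟩ := F.kerR_noncomm hno hu hui hut
  exact (F.pt.kerR_quat ha hb hab).1 c (F.covC_kernel hc hc1).1 fun r hr => (mem_covC.mp hc).2.1 r hr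

theorem covC_sq {c : X} (hc : c ∈ covC P L) (hc1 : img H c ≠ 1) : c * c = t :=
  (F.covC_inf hno hu hui hut (F.sq_mem hc).1 (F.sq_mem hc).2).resolve_left fun e =>
    hc1 (by rw [hno c hc ⟨fun e1 => hc1 (by rw [e1, map_one]), e⟩, F.pt.img_t])

theorem covC_anti {c d : X} (hc : c ∈ covC P L) (hd : d ∈ covC P L) (hc1 : img H c ≠ 1) (hd1 : img H d ≠ 1)
    (hne : img H c ≠ img H d) : c * d = d * c * t := by
  refine (F.comm_or hc hd).resolve_left fun hcd => ?_
  have h1 : img H (c * d) ≠ 1 := by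
    rw [map_mul, ← F.baseGrp_sq (mem_covC.mp hd).2.2]
    exact fun e => hne (mul_right_cancel e)
  have h2 := F.covC_sq hno hu hui hut (mul_mem hc hd) h1
  rw [hcd.symm.mul_mul_mul_comm, F.covC_sq hno hu hui hut hc hc1, F.covC_sq hno hu hui hut hd hd1, F.pt.inv.2] at h2
  exact F.pt.inv.1 h2.symm

/-- `C` has four classes modulo the kernel. -/
theorem covC_four {c d : X} (hc : c ∈ covC P L) (hd : d ∈ covC P L) (hc1 : img H c ≠ 1) (hd1 : img H d ≠ 1)
    (hne : img H c ≠ img H d) {z : X} (hz : z ∈ covC P L) :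
    img H z = 1 ∨ img H z = img H c ∨ img H z = img H d ∨ img H z = img H (c * d) := by
  by_contra hcon
  push Not at hcon
  obtain ⟨hz1, hzc, hzd, hzcd⟩ := hcon
  have a1 := F.covC_anti hno hu hui hut hz hc hz1 hc1 hzc
  have a2 := F.covC_anti hno hu hui hut hz hd hz1 hd1 hzd
  have hcd1 : img H (c * d) ≠ 1 := by
    rw [map_mul, ← F.baseGrp_sq (mem_covC.mp hd).2.2]
    exact fun e => hne (mul_right_cancel e)
  have a3 := F.covC_anti hno hu hui hut hz (mul_mem hc hd) hz1 hcd1 hzcd
  refine F.pt.inv.1 ?_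
  have h : z * (c * d) = c * d * z := by
    calc z * (c * d) = z * c * d := (mul_assoc _ _ _).symm
      _ = c * z * (t * d) := by rw [a1]; simp only [mul_assoc]
      _ = c * (z * d) * t := by rw [← (F.pt.central d).eq]; simp only [mul_assoc]
      _ = c * d * z * (t * t) := by rw [a2]; simp only [mul_assoc]
      _ = c * d * z := by rw [F.pt.inv.2, mul_one]
  rw [h] at a3
  exact mul_eq_left.mp a3.symm

/-- Two classes. -/
theorem exists_two_classes : ∃ c ∈ covC P L, ∃ d ∈ covC P L, img H c ≠ 1 ∧ img H d ≠ 1 ∧ img H c ≠ img H d := by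
  haveI := F.faithful
  obtain ⟨v, w, hv, hvb, hw, hwb, hne⟩ := F.oneFix.exists_two_at (base H)
  have hmem : ∀ {e : ↥L}, IsInv e → e • base H = base H → (e : permGrp X (X ⧸ H)) ∈ baseGrp L :=
    fun {e} he heb => F.mem_baseGrp.mpr (Or.inr ⟨e, ⟨mem_stabilizer_iff.mpr heb, he.1, he.2⟩, rfl⟩)
  obtain ⟨c, hc, hcv⟩ := F.exists_covC (hmem hv hvb)
  obtain ⟨d, hd, hdw⟩ := F.exists_covC (hmem hw hwb)
  exact ⟨c, hc, d, hd, fun e => hv.1 (Subtype.ext (hcv ▸ e)), fun e => hw.1 (Subtype.ext (hdw ▸ e)),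
    fun e => hne (Subtype.ext (hcv.symm.trans (e.trans hdw)))⟩

/-- The base group and `C` have four and eight elements. -/
theorem card_baseGrp : Nat.card (baseGrp L) = 4 ∧ Nat.card (covC P L) = 8 := by
  classical
  obtain ⟨c, hc, d, hd, hc1, hd1, hne⟩ := F.exists_two_classes hno hu hui hut
  have hset : (baseGrp L : Set (permGrp X (X ⧸ H))) = {1, img H c, img H d, img H (c * d)} := by
    ext x
    constructor
    · intro hx
      obtain ⟨z, hz, rfl⟩ := F.exists_covC hx
      simpa using F.covC_four hno hu hui hut hc hd hc1 hd1 hne hz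
    · rintro (rfl | rfl | rfl | rfl)
      · exact one_mem _
      · exact (mem_covC.mp hc).2.2
      · exact (mem_covC.mp hd).2.2
      · exact (mem_covC.mp (mul_mem hc hd)).2.2
  have h1 : img H (c * d) ≠ 1 := by
    rw [map_mul, ← F.baseGrp_sq (mem_covC.mp hd).2.2]
    exact fun e => hne (mul_right_cancel e)
  have h2 : img H c ≠ img H (c * d) := fun e => hd1 (by rw [map_mul] at e; exact mul_eq_left.mp e.symm)
  have h3 : img H d ≠ img H (c * d) := fun e => hc1 (by rw [map_mul] at e; exact mul_eq_right.mp e.symm)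
  have hB : Nat.card (baseGrp L) = 4 := by
    show Nat.card (baseGrp L : Set (permGrp X (X ⧸ H))) = 4
    rw [hset, Nat.card_coe_set_eq,
      Set.ncard_insert_of_notMem (by
        simp only [Set.mem_insert_iff, Set.mem_singleton_iff, not_or]
        exact ⟨Ne.symm hc1, Ne.symm hd1, Ne.symm h1⟩),
      Set.ncard_insert_of_notMem (by
        simp only [Set.mem_insert_iff, Set.mem_singleton_iff, not_or]
        exact ⟨hne, h2⟩),
      Set.ncard_insert_of_notMem (by
        simp only [Set.mem_singleton_iff]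
        exact h3), Set.ncard_singleton]
  refine ⟨hB, ?_⟩
  set f : ↥(covC P L) →* ↥(baseGrp L) :=
    ((img H).comp (covC P L).subtype).codRestrict (baseGrp L) fun z => (mem_covC.mp z.2).2.2
  have hf : Function.Surjective f := fun x => by
    obtain ⟨z, hz, e⟩ := F.exists_covC x.2
    exact ⟨⟨z, hz⟩, Subtype.ext e⟩
  have hker : Nat.card f.ker = 2 := by
    have htC : t ∈ covC P L :=
      mem_covC.mpr ⟨F.pt.t_mem_P, fun r _ => (F.pt.central r).symm, by rw [F.pt.img_t]; exact one_mem _⟩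
    have hker' : (f.ker : Set ↥(covC P L)) = {1, ⟨t, htC⟩} := by
      ext z
      constructor
      · intro hz
        rcases F.covC_inf hno hu hui hut z.2 (congrArg Subtype.val hz) with e | e
        · exact Or.inl (Subtype.ext e)
        · exact Or.inr (Subtype.ext e)
      · rintro (rfl | rfl)
        · exact one_mem _
        · exact Subtype.ext F.pt.img_t
    show Nat.card (f.ker : Set ↥(covC P L)) = 2
    rw [hker', Nat.card_coe_set_eq, Set.ncard_pair]
    exact fun e => F.pt.inv.1 (congrArg Subtype.val e).symm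
  rw [Subgroup.card_eq_card_quotient_mul_card_subgroup f.ker,
    Nat.card_congr (QuotientGroup.quotientKerEquivOfSurjective f hf).toEquiv, hB, hker]

/-- The regular group at the base point is the base group, so there are five points; and what centralises it there
acts as one of its elements. -/
theorem five_self : H.index = 5 ∧ ∀ g : permGrp X (X ⧸ H), g • base H = base H →
    (∀ z ∈ baseGrp L, Commute g z) → g ∈ baseGrp L := by
  classical
  haveI := F.faithful
  obtain ⟨τ, Q, hS, hQ2⟩ := F.setup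
  have h2 : ∃ x y : ↥L, x ≠ 1 ∧ y ≠ 1 ∧ x ≠ y ∧ x * x = 1 ∧ y * y = 1 ∧ x * y = y * x := F.oneFix.four
  have hQa : ∀ {z : ↥L}, z ∈ Q → (z : permGrp X (X ⧸ H)) • base H = base H := fun hz =>
    mem_stabilizer_iff.mp (hS.le hz)
  obtain ⟨-, hsyln⟩ := F.mem_reg hS hQ2
  have hEQ : ∀ {z : ↥L}, z ∈ Q → z * z = 1 → (z : permGrp X (X ⧸ H)) ∈ baseGrp L := by
    intro z hz hz2
    refine F.mem_baseGrp.mpr ?_
    by_cases h1 : z = 1
    · exact Or.inl (by rw [h1]; rfl)
    · exact Or.inr ⟨z, ⟨hS.le hz, h1, hz2⟩, rfl⟩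
  have hcentral : ∀ {z : ↥L} {w : permGrp X (X ⧸ H)}, z ∈ Q → w ∈ baseGrp L →
      Commute (z : permGrp X (X ⧸ H)) w := by
    intro z w hz hw
    rcases F.mem_baseGrp.mp hw with rfl | ⟨e, he, rfl⟩
    · exact Commute.one_right _
    · exact congrArg Subtype.val (RankOne.invol_central hS h2 he hz).symm
  -- a lift of an element of `Q`, adjusted to centralise `C`, has trivial square as the points see it
  have hsq : ∀ z : ↥L, z ∈ Q → z * z * (z * z) = 1 → z * z = 1 := by
    intro z hz hz4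
    by_contra hz2
    obtain ⟨s, hs, hse⟩ := F.pt.exists_lift (T := Q.map L.subtype) (hQ2.map _)
      (by rintro _ ⟨x, hx, rfl⟩; exact hQa hx)
      (fun x hx => Comp.mem_normalizer_of_maps (by
        rintro _ ⟨w, hw, rfl⟩
        exact ⟨_, hsyln (fix_base.mpr hx) hw, rfl⟩))
      ⟨z, hz, rfl⟩
    change img H s = (z : permGrp X (X ⧸ H)) at hse
    -- conjugation by `s` changes signs in `C`
    have hsign : ∀ x ∈ covC P L, s * x * s⁻¹ = x ∨ s * x * s⁻¹ = x * t := by
      intro x hx
      obtain ⟨hxP, hxR, hxb⟩ := mem_covC.mp hx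
      have himg : img H (s * x * s⁻¹) = img H x := by
        rw [map_mul, map_mul, map_inv, hse, (hcentral hz hxb).eq, mul_inv_cancel_right]
      have hsx : s * x * s⁻¹ ∈ covC P L := by
        refine mem_covC.mpr ⟨mul_mem (mul_mem hs hxP) (inv_mem hs), fun r hr => ?_, himg ▸ hxb⟩
        have h1 := hxR (s⁻¹ * r * s) ((Subgroup.mem_normalizer_iff''.mp (F.kerR_norm hs) r).mp hr)
        calc s * x * s⁻¹ * r = s * (x * (s⁻¹ * r * s)) * s⁻¹ := by group
          _ = s * (s⁻¹ * r * s * x) * s⁻¹ := by rw [h1.eq]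
          _ = r * (s * x * s⁻¹) := by group
      rcases F.covC_inf hno hu hui hut (c := x⁻¹ * (s * x * s⁻¹)) (mul_mem (inv_mem hx) hsx)
        (by rw [map_mul, map_inv, himg, inv_mul_cancel]) with e | e
      · exact Or.inl (by rw [← mul_inv_cancel_left x (s * x * s⁻¹), e, mul_one])
      · exact Or.inr (by rw [← mul_inv_cancel_left x (s * x * s⁻¹), e])
    obtain ⟨c, hc, d, hd, hc1, hd1, hne⟩ := F.exists_two_classes hno hu hui hut
    have hcd := F.covC_anti hno hu hui hut hc hd hc1 hd1 hne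
    have hdc := F.covC_anti hno hu hui hut hd hc hd1 hc1 hne.symm
    have hmove : ∀ {x w : X}, x * w = w * x * t → x⁻¹ * w * x = w * t := fun {x w} e => by
      calc x⁻¹ * w * x = x⁻¹ * (w * x * t) * t⁻¹ := by group
        _ = x⁻¹ * (x * w) * t⁻¹ := by rw [e]
        _ = w * t := by rw [inv_mul_cancel_left, F.pt.inv.inv]
    have htw : ∀ x w : X, x⁻¹ * (w * t) * x = x⁻¹ * w * x * t := fun x w => by
      rw [show x⁻¹ * (w * t) * x = x⁻¹ * w * (t * x) by group, ← (F.pt.central x).eq]
      simp only [mul_assoc]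
    have htt : ∀ w : X, w * t * t = w := fun w => by rw [mul_assoc, F.pt.inv.2, mul_one]
    obtain ⟨k, hk, hkc, hkd⟩ : ∃ k ∈ covC P L, k⁻¹ * (s * c * s⁻¹) * k = c ∧ k⁻¹ * (s * d * s⁻¹) * k = d := by
      rcases hsign c hc with e1 | e1 <;> rcases hsign d hd with e2 | e2 <;> rw [e1, e2]
      · exact ⟨1, one_mem _, by simp, by simp⟩
      · exact ⟨c, hc, by group, by rw [htw, hmove hcd, htt]⟩
      · exact ⟨d, hd, by rw [htw, hmove hdc, htt], by group⟩
      · refine ⟨c * d, mul_mem hc hd, ?_, ?_⟩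
        · rw [htw, show (c * d)⁻¹ * c * (c * d) = d⁻¹ * c * d by group, hmove hdc, htt]
        · rw [htw, show (c * d)⁻¹ * d * (c * d) = d⁻¹ * (c⁻¹ * d * c) * d by group, hmove hcd, htw,
            show d⁻¹ * d * d = d by group, htt]
    set s' := k⁻¹ * s with hs'
    have hcomm : ∀ {x}, k⁻¹ * (s * x * s⁻¹) * k = x → Commute s' x := fun {x} e => by
      show k⁻¹ * s * x = x * (k⁻¹ * s)
      calc k⁻¹ * s * x = k⁻¹ * (s * x * s⁻¹) * k * (k⁻¹ * s) := by group
        _ = x * (k⁻¹ * s) := by rw [e]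
    have hcC : ∀ x ∈ covC P L, Commute s' x := by
      intro x hx
      have h1 : ∀ w ∈ ({1, c, d, c * d} : Set X), Commute s' w := by
        rintro w (rfl | rfl | rfl | rfl)
        · exact Commute.one_right _
        · exact hcomm hkc
        · exact hcomm hkd
        · exact (hcomm hkc).mul_right (hcomm hkd)
      obtain ⟨w, hw, hwC, hwe⟩ : ∃ w ∈ ({1, c, d, c * d} : Set X), w ∈ covC P L ∧ img H x = img H w := by
        rcases F.covC_four hno hu hui hut hc hd hc1 hd1 hne hx with e | e | e | e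
        · exact ⟨1, by simp, one_mem _, by rw [e, map_one]⟩
        · exact ⟨c, by simp, hc, e⟩
        · exact ⟨d, by simp, hd, e⟩
        · exact ⟨c * d, by simp, mul_mem hc hd, e⟩
      have h2 : Commute s' (w⁻¹ * x) := by
        rcases F.covC_inf hno hu hui hut (c := w⁻¹ * x) (mul_mem (inv_mem hwC) hx)
          (by rw [map_mul, map_inv, hwe, inv_mul_cancel]) with e | e
        · rw [e]; exact Commute.one_right _
        · rw [e]; exact F.pt.central _
      simpa using (h1 w hw).mul_right h2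
    have hkb := (mem_covC.mp hk).2.2
    have himg' : img H (s' * s') = ((z * z : ↥L) : permGrp X (X ⧸ H)) := by
      simp only [hs', map_mul, map_inv, hse, Subgroup.coe_mul]
      rw [inv_eq_of_mul_eq_one_right (F.baseGrp_sq hkb), (hcentral hz hkb).mul_mul_mul_comm, F.baseGrp_sq hkb,
        one_mul]
    have hs'P : s' ∈ (P : Subgroup X) := mul_mem (inv_mem (mem_covC.mp hk).1) hs
    obtain ⟨r, hr, e, he, hre⟩ := F.decomp (mul_mem hs'P hs'P) (by
      rw [himg']; exact hEQ (mul_mem hz hz) hz4)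
    have he1 : img H e = 1 := by
      by_contra he1
      obtain ⟨x, hx, hxe⟩ : ∃ x ∈ covC P L, ¬ Commute e x := by
        by_contra hall
        push Not at hall
        have h5 := (F.comm_of_central he he1 hall c hc d hd).eq
        rw [hcd] at h5
        exact F.pt.inv.1 (mul_eq_left.mp h5)
      refine hxe ?_
      have h5 : Commute (r * e) x := hre ▸ ((hcC x hx).mul_left (hcC x hx))
      simpa using ((((mem_covC.mp hx).2.1 r hr).symm).inv_left).mul_left h5
    refine hz2 (Subtype.ext ?_)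
    rw [← himg', hre, map_mul, he1, img_mem_core.mpr hr.2, mul_one]
    rfl
  have hexp : ∀ {z : ↥L}, z ∈ Q → z * z = 1 := by
    intro z hz
    obtain ⟨i, hi⟩ := hQ2 ⟨z, hz⟩
    have hi' : z ^ 2 ^ i = 1 := congrArg Subtype.val hi
    clear hi
    induction i generalizing z with
    | zero => rw [pow_zero, pow_one] at hi'; rw [hi', one_mul]
    | succ i ih =>
      refine hsq z hz (ih (mul_mem hz hz) ?_)
      rwa [← pow_two, ← pow_mul, ← pow_succ']
  have hQB : Q.map L.subtype = baseGrp L := by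
    refine le_antisymm ?_ fun x hx => ?_
    · rintro _ ⟨z, hz, rfl⟩
      exact hEQ hz (hexp hz)
    · rcases F.mem_baseGrp.mp hx with rfl | ⟨e, he, rfl⟩
      · exact one_mem _
      · exact ⟨e, SuzukiRankOne.invol_mem hS he, rfl⟩
  have hcard : Nat.card Q = 4 := by
    rw [← Subgroup.card_map_of_injective L.subtype_injective, hQB]
    exact (F.card_baseGrp hno hu hui hut).1
  refine ⟨?_, fun g hg hgc => ?_⟩
  · rw [Subgroup.index, RankOne.card_points hS, hcard]
  · obtain ⟨b, hb⟩ := F.pt.exists_ne_base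
    have hgb : g • b ≠ base H := fun e => hb ((smul_left_cancel_iff g).mp (e.trans hg.symm))
    obtain ⟨q, hq, -⟩ := RankOne.exists_unique_Q hS hb hgb
    have hqB : ((q : ↥L) : permGrp X (X ⧸ H)) ∈ baseGrp L := hEQ q.2 (hexp q.2)
    have h1 : g = ((q : ↥L) : permGrp X (X ⧸ H)) := by
      refine FaithfulSMul.eq_of_smul_eq_smul (α := X ⧸ H) fun p => ?_
      by_cases hp : p = base H
      · rw [hp, hg, hQa q.2]
      · obtain ⟨w, hw, -⟩ := RankOne.exists_unique_Q hS hb hp
        have hwB : ((w : ↥L) : permGrp X (X ⧸ H)) ∈ baseGrp L := hEQ w.2 (hexp w.2)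
        have hw' : ((w : ↥L) : permGrp X (X ⧸ H)) • b = p := hw
        have hq' : ((q : ↥L) : permGrp X (X ⧸ H)) • b = g • b := hq
        rw [← hw', ← mul_smul, (hgc _ hwB).eq, mul_smul, ← hq', ← mul_smul, ← mul_smul,
          (F.baseGrp_comm hwB hqB).eq]
    rw [h1]
    exact hqB

/-- The quaternion outcome. -/
theorem quat_of_noMember : Quat H P t (kerR H P) (covC P L) := by
  classical
  obtain ⟨a, ha, b, hb, hab⟩ := F.kerR_noncomm hno hu hui hut
  have hq := F.pt.kerR_quat ha hb hab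
  have hC1 : ∀ {c : X}, c ∈ covC P L → c ≠ 1 → c ≠ t → img H c ≠ 1 := fun hc h1 ht e =>
    (F.covC_inf hno hu hui hut hc e).elim h1 ht
  obtain ⟨hfive, hself⟩ := F.five_self hno hu hui hut
  refine
    { R_eq := rfl
      R_center := hq.1
      partner := hq.2
      C_le := fun c hc => (mem_covC.mp hc).1
      C_comm := fun c hc => (mem_covC.mp hc).2.1
      C_inf := fun c hc hcR => F.covC_inf hno hu hui hut hc (img_mem_core.mpr hcR.2)
      C_card := (F.card_baseGrp hno hu hui hut).2
      C_sq := fun c hc h1 ht => F.covC_sq hno hu hui hut hc (hC1 hc h1 ht)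
      C_anti := fun c hc d hd hc1 hct hd1 hdt hdc hdct => ?_
      five := hfive
      member := fun v hv hvi hvt => ?_
      trans := fun c hc d hd hc1 hct hd1 hdt => ?_
      self := fun g hg hgc => ?_ }
  · refine F.covC_anti hno hu hui hut hc hd (hC1 hc hc1 hct) (hC1 hd hd1 hdt) fun e => ?_
    rcases F.covC_inf hno hu hui hut (c := c⁻¹ * d) (mul_mem (inv_mem hc) hd)
      (by rw [map_mul, map_inv, e, inv_mul_cancel]) with h | h
    · exact hdc (inv_mul_eq_one.mp h).symm
    · exact hdct (by rw [← h, mul_inv_cancel_left])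
  · obtain ⟨r, hr, c, hc, e, hc1, h2⟩ := F.member_decomp hv hvi hvt
    have hc2 := F.covC_sq hno hu hui hut hc hc1
    refine ⟨r, hr, c, hc, e, ?_, hc2⟩
    rw [hc2] at h2
    rw [eq_inv_of_mul_eq_one_left h2, F.pt.inv.inv]
  · obtain ⟨g, hgH, hgR, hgC, hg⟩ := F.exists_transport hc (hC1 hc hc1 hct) hd (hC1 hd hd1 hdt)
    refine ⟨g, hgH, hgR, hgC, ?_⟩
    rcases F.covC_inf hno hu hui hut (c := d⁻¹ * (g * c * g⁻¹)) (mul_mem (inv_mem hd) (hgC c hc))
      (by rw [map_mul, map_inv, hg, inv_mul_cancel]) with e | e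
    · exact Or.inl (by rw [← mul_inv_cancel_left d (g * c * g⁻¹), e, mul_one])
    · exact Or.inr (by rw [← mul_inv_cancel_left d (g * c * g⁻¹), e])
  · have h1 := hself (img H g) (fix_base.mpr hg) fun z hz => by
      obtain ⟨c, hc, rfl⟩ := F.exists_covC hz
      show img H g * img H c = img H c * img H g
      rw [← map_mul, ← map_mul]
      exact FaithfulSMul.eq_of_smul_eq_smul (α := X ⧸ H) fun p => hgc c hc p
    obtain ⟨c, hc, e⟩ := F.exists_covC h1
    exact ⟨c, hc, fun p => by rw [← img_smul g p, ← img_smul c p, e]⟩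

/-- Every member centralises two involutions with a product of square `t`. -/
theorem pairs_of_noMember : Pairs P t := by
  intro v hv hvi hvt
  have hQ := F.quat_of_noMember hno hu hui hut
  obtain ⟨r, hr, c, hc, rfl, hr2, hc2⟩ := hQ.member v hv hvi hvt
  obtain ⟨r', hr', hr'2, hrr⟩ := hQ.partner r hr hr2
  obtain ⟨c₀, hc₀, d₀, hd₀, hc₀1, hd₀1, hne⟩ := F.exists_two_classes hno hu hui hut
  have hc1 : img H c ≠ 1 := fun e => by
    rcases F.covC_inf hno hu hui hut hc e with h | h
    · exact F.pt.inv.1 (by rw [← hc2, h, one_mul])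
    · exact F.pt.inv.1 (by rw [← hc2, h, F.pt.inv.2])
  obtain ⟨c', hc', hc'1, hcne⟩ : ∃ c' ∈ covC P L, img H c' ≠ 1 ∧ img H c ≠ img H c' := by
    by_cases e : img H c = img H c₀
    · exact ⟨d₀, hd₀, hd₀1, e ▸ hne⟩
    · exact ⟨c₀, hc₀, hc₀1, e⟩
  have hcc'1 : img H (c * c') ≠ 1 := by
    rw [map_mul, ← F.baseGrp_sq (mem_covC.mp hc').2.2]
    exact fun e => hcne (mul_right_cancel e)
  have hc'2 := F.covC_sq hno hu hui hut hc' hc'1
  have hcc'2 := F.covC_sq hno hu hui hut (mul_mem hc hc') hcc'1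
  have hanti := F.covC_anti hno hu hui hut hc hc' hc1 hc'1 hcne
  have hanti' : c * (c * c') = c * c' * c * t :=
    F.covC_anti hno hu hui hut hc (mul_mem hc hc') hc1 hcc'1 fun e => hc'1 (by
      rw [map_mul] at e; exact mul_eq_left.mp e.symm)
  -- a product `r' x` with `x` in `C` of square `t` is an involution
  have hinv : ∀ {x}, x ∈ covC P L → x * x = t → img H x ≠ 1 → IsInv (r' * x) := by
    intro x hx hx2 hx1
    refine ⟨fun e => hx1 ?_, ?_⟩
    · rw [eq_inv_of_mul_eq_one_right e, map_inv, img_mem_core.mpr hr'.2, inv_one]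
    · rw [((mem_covC.mp hx).2.1 r' hr').mul_mul_mul_comm, hr'2, hx2, F.pt.inv.2]
  have hcom : ∀ {x}, x ∈ covC P L → c * x = x * c * t → Commute (r' * x) (r * c) := by
    intro x hx hcx
    have e1 : x * r = r * x := ((mem_covC.mp hx).2.1 r hr).eq
    have e2 : c * r' = r' * c := ((mem_covC.mp hc).2.1 r' hr').eq
    show r' * x * (r * c) = r * c * (r' * x)
    calc r' * x * (r * c) = r' * r * (x * c) * (t * t) := by
          rw [F.pt.inv.2, mul_one]
          simp only [← mul_assoc]
          rw [mul_assoc r' x r, e1, ← mul_assoc]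
      _ = r' * r * t * (x * c * t) := by
          rw [mul_assoc (r' * r) t, ← mul_assoc t (x * c), ← (F.pt.central (x * c)).eq]
          simp only [mul_assoc]
      _ = r * r' * (c * x) := by rw [← hrr, ← hcx]
      _ = r * c * (r' * x) := by
          rw [mul_assoc r c, ← mul_assoc c r' x, e2]; simp only [mul_assoc]
  refine ⟨r' * c', r' * (c * c'), hinv hc' hc'2 hc'1, hinv (mul_mem hc hc') hcc'2 hcc'1, hcom hc' hanti,
    hcom (mul_mem hc hc') hanti', ?_⟩
  have e3 : r' * c' * (r' * (c * c')) = c * t := by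
    calc r' * c' * (r' * (c * c')) = r' * r' * (c' * (c * c')) := by
          rw [((mem_covC.mp hc').2.1 r' hr').mul_mul_mul_comm]
      _ = t * (c' * (c' * c * t)) := by rw [hr'2, hanti]
      _ = c * t := by
          rw [← mul_assoc c', ← mul_assoc c', hc'2, ← mul_assoc, ← mul_assoc, F.pt.inv.2, one_mul]
  rw [e3, (F.pt.central c).symm.mul_mul_mul_comm, hc2, F.pt.inv.2, mul_one]

end Frame

end CfsgLib.CoreKill.Local
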