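import Cfsg.Agent.Lib.CoreKill.Local.Core
import Cfsg.Agent.Lib.CoreKill.Local.Quat

/-!
The centraliser of a bad involution without failure: balance and rigidity at commuting members, or the exceptional
outcome.

Blueprint: `blueprint/bender/CoreKill.md`, 2.
-/

set_option autoImplicit false
set_option linter.unusedSectionVars false
set_option linter.style.haveILetI false

namespace CfsgLib.CoreKill.Local

open Cfsg MulAction
open CfsgLib.Bender.TwoClosed (IsInv)
open CfsgLib.Bender.Q (permGrp permImg permImg_eq_one)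

universe u

variable {X : Type u} [Group X] [Finite X] {H : Subgroup X} {P : Sylow 2 X} {t : X}

/-- An element of odd order and square one is trivial. -/
theorem eq_one_of_odd {G : Type*} [Group G] {z : G} (hz : z * z = 1) (hodd : Odd (orderOf z)) : z = 1 := by
  refine orderOf_eq_one_iff.mp (Nat.eq_one_of_dvd_coprimes (Nat.coprime_two_right.mpr hodd) dvd_rfl
    (orderOf_dvd_of_pow_eq_one ?_))
  rw [pow_two, hz]

/-- The image of an element of odd order. -/
theorem odd_img {A : Subgroup X} (hA : Odd (Nat.card A)) {a : X} (ha : a ∈ A) : Odd (orderOf (img H a)) :=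
  hA.of_dvd_nat ((orderOf_map_dvd (img H) a).trans (Subgroup.orderOf_dvd_natCard A ha))

namespace Frame

variable {L : Subgroup (permGrp X (X ⧸ H))} (F : Frame H P t L)
include F

/-- An odd normal subgroup of the whole acts trivially. -/
theorem core_le_kernel : oddCore X ≤ H.normalCore := by
  haveI := F.faithful
  haveI := F.oneFix.trans
  obtain ⟨τ, Q, hS, -⟩ := F.setup
  set N := (oddCore X).map (img H) with hN
  have hNn : ∀ g n, n ∈ N → g * n * g⁻¹ ∈ N := by
    rintro g _ ⟨x, hx, rfl⟩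
    obtain ⟨y, rfl⟩ := img_surj g
    exact ⟨y * x * y⁻¹, (inferInstance : (pPrimeCore 2 X).Normal).conj_mem x hx y,
      by rw [map_mul, map_mul, map_inv]⟩
  have hNodd : Odd (Nat.card N) :=
    (Nat.coprime_two_left.mp (CfsgLib.card_pPrimeCore_coprime (G := X) 2).symm).of_dvd_nat (Subgroup.card_map_dvd _ _)
  haveI hNL : (N.subgroupOf L).Normal := ⟨fun n hn g => hNn g n hn⟩
  have hbot : N.subgroupOf L = ⊥ := by
    by_contra hne
    obtain ⟨i, hi, -⟩ := F.oneFix.exists_inv_at (base H)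
    have hmem := Bender.Ext.normal_invol hS F.oneFix.four hne hi.1 hi.2
    exact hi.1 (Subtype.ext (eq_one_of_odd (congrArg Subtype.val hi.2)
      (hNodd.of_dvd_nat (Subgroup.orderOf_dvd_natCard N hmem))))
  intro x hx
  refine img_mem_core.mp ?_
  have hxN : img H x ∈ N := ⟨x, hx, rfl⟩
  refine FaithfulSMul.eq_of_smul_eq_smul (α := X ⧸ H) fun c => ?_
  obtain ⟨i, hi, hic⟩ := F.oneFix.exists_inv_at c
  have hcomm : img H x * i = i * img H x := by
    have h2 : img H x * (i : permGrp X (X ⧸ H)) * (img H x)⁻¹ * (i : permGrp X (X ⧸ H))⁻¹ = 1 := by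
      have hm : (⟨_, mul_mem (F.normal.conj_mem _ i.2 (img H x)) (inv_mem i.2)⟩ : ↥L) ∈ N.subgroupOf L := by
        show img H x * (i : permGrp X (X ⧸ H)) * (img H x)⁻¹ * (i : permGrp X (X ⧸ H))⁻¹ ∈ N
        rw [mul_assoc, mul_assoc]
        refine mul_mem hxN ?_
        rw [← mul_assoc]
        exact hNn _ _ (inv_mem hxN)
      rw [hbot, Subgroup.mem_bot] at hm
      exact congrArg Subtype.val hm
    rw [mul_inv_eq_one] at h2
    exact mul_inv_eq_iff_eq_mul.mp h2
  rw [one_smul]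
  refine F.oneFix.eq_of_fix hi ?_ hic
  show (i : permGrp X (X ⧸ H)) • img H x • c = img H x • c
  rw [← mul_smul, ← hcomm, mul_smul, (show (i : permGrp X (X ⧸ H)) • c = c from hic)]

/-- The members of `P` commute or every member centralises two involutions with a product of order four. -/
theorem comm_or_pairs {v y : X} (hv : v ∈ (P : Subgroup X)) (hy : y ∈ (P : Subgroup X)) (hvi : IsInv v)
    (hyi : IsInv y) (hvt : v ≠ t) (hyt : y ≠ t) (hvy : Commute v y) (hne : img H v ≠ img H y) :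
    ((∀ x ∈ (P : Subgroup X), IsInv x → x ≠ t → x ∈ covC P L) ∧
      ∀ c ∈ covC P L, ∀ d ∈ covC P L, Commute c d) ∨ Pairs P t := by
  by_cases hno : ∀ c ∈ covC P L, IsInv c → c = t
  · exact Or.inr (F.pairs_of_noMember hno hv hvi hvt)
  push Not at hno
  obtain ⟨w, hw, hwi, hwt⟩ := hno
  by_cases hnc : ∃ c ∈ covC P L, ∃ d ∈ covC P L, ¬ Commute c d
  · exact Or.inr (F.pairs_of_member hw hwi hwt hv hy hvi hyi hvt hyt hvy hne hnc)
  push Not at hnc
  exact Or.inl ⟨fun x hx hxi hxt => F.member_mem hw hwi hwt hx hxi hxt, hnc⟩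

/-- A member inverting an element of square `t` of `R` gives the quaternion outcome. -/
theorem quat {u r : X} (hu : IsInv u) (hut : u ≠ t) (huP : u ∈ (P : Subgroup X)) (hr : r ∈ kerR H P)
    (hr2 : r * r = t) (hinv : u * r * u⁻¹ = r⁻¹) : ∃ C, Quat H P t (kerR H P) C := by
  by_cases hno : ∀ c ∈ covC P L, IsInv c → c = t
  · exact ⟨_, F.quat_of_noMember hno huP hu hut⟩
  exfalso
  push Not at hno
  obtain ⟨w, hw, hwi, hwt⟩ := hno
  have h1 := (mem_covC.mp (F.member_mem hw hwi hwt huP hu hut)).2.1 r hr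
  rw [h1.eq, mul_inv_cancel_right] at hinv
  exact F.pt.inv.1 (by rw [← hr2]; nth_rw 2 [hinv]; exact mul_inv_cancel r)

section StructPart

variable (hM : ∀ x ∈ (P : Subgroup X), IsInv x → x ≠ t → x ∈ covC P L)
  (hC : ∀ c ∈ covC P L, ∀ d ∈ covC P L, Commute c d)
include hM hC

theorem struct_comm : ∀ x ∈ (P : Subgroup X), ∀ y ∈ (P : Subgroup X), IsInv x → IsInv y → Commute x y := by
  intro x hx y hy hxi hyi
  by_cases hxt : x = t
  · rw [hxt]; exact (F.pt.central y).symm
  by_cases hyt : y = t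
  · rw [hyt]; exact F.pt.central x
  exact hC x (hM x hx hxi hxt) y (hM y hy hyi hyt)

/-- A lift into `C` of an element of the base group which is a member or in the kernel. -/
theorem exists_member {y : X} (hy : y ∈ (P : Subgroup X)) (hyi : IsInv y) (hyt : y ≠ t)
    {z : permGrp X (X ⧸ H)} (hz : z ∈ baseGrp L) (hz1 : z ≠ 1) :
    ∃ v ∈ (P : Subgroup X), IsInv v ∧ v ≠ t ∧ v ∈ covC P L ∧ img H v = z := by
  obtain ⟨c, hc, rfl⟩ := F.exists_covC hz
  obtain ⟨p, hp, hpi, hpe, -⟩ := F.exists_lift_inv (hM y hy hyi hyt) hyi hyt hc hz1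
  exact ⟨p, (mem_covC.mp hp).1, hpi, fun e => hz1 (by rw [← hpe, e, F.pt.img_t]), hp, hpe⟩

theorem struct_bal {y : X} (hy : y ∈ (P : Subgroup X)) (hyi : IsInv y) (hyt : y ≠ t) {A : Subgroup X}
    (hA : Odd (Nat.card A)) (hAC : A ≤ Subgroup.centralizer ({y} : Set X))
    (hn : Subgroup.centralizer ({y} : Set X) ≤ Subgroup.normalizer (A : Set X)) : A ≤ oddCore X := by
  classical
  haveI : Fact (Nat.Prime 2) := ⟨Nat.prime_two⟩
  haveI := F.faithful
  obtain ⟨τ, Q, hS, hQ2⟩ := F.setup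
  have h2 : ∃ x y : ↥L, x ≠ 1 ∧ y ≠ 1 ∧ x ≠ y ∧ x * x = 1 ∧ y * y = 1 ∧ x * y = y * x := F.oneFix.four
  refine F.pt.le_core_of_kernel hy hyi hyt
    (fun r hr => ((mem_covC.mp (hM y hy hyi hyt)).2.1 r hr).symm) hA (fun a ha => ?_) hn
  refine img_mem_core.mp ?_
  have hay : a * y = y * a := Subgroup.mem_centralizer_singleton_iff.mp (hAC ha)
  have haH : a ∈ H := by
    refine fix_base.mp ?_
    show a • base H = base H
    exact F.pt.commute_fix hyi hyt (fix_base.mpr (F.pt.P_le hy)) hay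
  have habase : img H a • base H = base H := fix_base.mpr haH
  set α := img H a with hα
  have hodd : ∀ {x}, x ∈ A → Odd (orderOf (img H x)) := fun hx => odd_img hA hx
  -- `a` commutes with the base group
  have hE : ∀ z ∈ baseGrp L, Commute α z := by
    intro z hz
    by_cases hz1 : z = 1
    · rw [hz1]; exact Commute.one_right _
    obtain ⟨v, hv, hvi, hvt, -, rfl⟩ := F.exists_member hM hC hy hyi hyt hz hz1
    have hvy := F.struct_comm hM hC v hv y hy hvi hyi
    have hav : a * (v * a⁻¹ * v⁻¹) ∈ A := mul_mem ha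
      ((Subgroup.mem_normalizer_iff.mp (hn (Subgroup.mem_centralizer_singleton_iff.mpr hvy.eq)) a⁻¹).mp (inv_mem ha))
    have hb : img H (a * (v * a⁻¹ * v⁻¹)) ∈ baseGrp L := by
      rw [show a * (v * a⁻¹ * v⁻¹) = a * v * a⁻¹ * v⁻¹ by simp only [mul_assoc], map_mul, map_mul, map_mul, map_inv,
        map_inv]
      exact mul_mem ((Subgroup.mem_normalizer_iff.mp (F.baseGrp_norm habase) _).mp hz) (inv_mem hz)
    have h1 := eq_one_of_odd (F.baseGrp_sq hb) (hodd hav)
    rw [map_mul, map_mul, map_mul, map_inv, map_inv, ← hα, ← mul_assoc, ← mul_assoc, mul_inv_eq_one,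
      mul_inv_eq_iff_eq_mul] at h1
    exact h1
  -- lifts of `Q`
  have hQa : ∀ {z : ↥L}, z ∈ Q → (z : permGrp X (X ⧸ H)) • base H = base H := fun hz =>
    mem_stabilizer_iff.mp (hS.le hz)
  have hsyl := F.mem_reg hS hQ2
  have hQn : ∀ {g : permGrp X (X ⧸ H)}, g • base H = base H → ∀ {z : ↥L}, z ∈ Q →
      ∃ z' ∈ Q, (z' : permGrp X (X ⧸ H)) = g * z * g⁻¹ := fun hg z hz => ⟨_, hsyl.2 hg hz, rfl⟩
  have hlift : ∀ z ∈ Q, ∃ s ∈ (P : Subgroup X), img H s = (z : permGrp X (X ⧸ H)) ∧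
      (s * y * s⁻¹ = y ∨ s * y * s⁻¹ = y * t) := by
    intro z hz
    obtain ⟨s, hs, hse⟩ := F.pt.exists_lift (T := Q.map L.subtype) (hQ2.map _)
      (by rintro _ ⟨x, hx, rfl⟩; exact hQa hx)
      (fun x hx => Comp.mem_normalizer_of_maps (by
        rintro _ ⟨w, hw, rfl⟩
        exact ⟨_, hsyl.2 (fix_base.mpr hx) hw, rfl⟩))
      ⟨z, hz, rfl⟩
    change img H s = (z : permGrp X (X ⧸ H)) at hse
    refine ⟨s, hs, hse, ?_⟩
    have hcP : s * y * s⁻¹ ∈ (P : Subgroup X) := mul_mem (mul_mem hs hy) (inv_mem hs)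
    have hci := hyi.conj s
    have hcy := F.struct_comm hM hC _ hcP y hy hci hyi
    have himg : img H (s * y * s⁻¹) = img H y := by
      rw [map_mul, map_mul, map_inv, hse]
      have h3 : Commute ((z : ↥L) : permGrp X (X ⧸ H)) (img H y) :=
        congrArg Subtype.val (RankOne.invol_central hS h2 (F.mem_base hyi hyt (F.pt.P_le hy)) hz).symm
      rw [h3.eq, mul_inv_cancel_right]
    rcases F.pt.eq_one_or_t (x := s * y * s⁻¹ * y) (by rw [hcy.symm.mul_mul_mul_comm, hci.2, hyi.2, one_mul])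
      (img_mem_core.mp (by rw [map_mul, himg, (F.pt.img_inv hyi hyt).2])) with e | e
    · exact Or.inl (by rw [eq_inv_of_mul_eq_one_left e, hyi.inv])
    · exact Or.inr (by rw [eq_mul_inv_of_mul_eq e, hyi.inv, (F.pt.central y).eq])
  -- an element centralising `y` over `Q` commutes with the image of `a`
  have hcentQ : ∀ {s : X} {z : ↥L}, z ∈ Q → img H s = (z : permGrp X (X ⧸ H)) → s * y * s⁻¹ = y →
      Commute α z := by
    intro s z hz hse hsy
    have hav : a * (s * a⁻¹ * s⁻¹) ∈ A := mul_mem ha ((Subgroup.mem_normalizer_iff.mp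
      (hn (Subgroup.mem_centralizer_singleton_iff.mpr (mul_inv_eq_iff_eq_mul.mp hsy))) a⁻¹).mp (inv_mem ha))
    obtain ⟨z', hz', hze⟩ := hQn habase hz
    have hd : img H (a * (s * a⁻¹ * s⁻¹)) = ((z' * z⁻¹ : ↥L) : permGrp X (X ⧸ H)) := by
      rw [Subgroup.coe_mul, Subgroup.coe_inv, hze]
      simp only [map_mul, map_inv, hse, ← hα, mul_assoc]
    obtain ⟨i, hi⟩ := hQ2 ⟨z' * z⁻¹, mul_mem hz' (inv_mem hz)⟩
    have h1 := Nat.eq_one_of_dvd_coprimes ((Nat.coprime_two_right.mpr (hodd hav)).pow_right i) dvd_rfl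
      (orderOf_dvd_of_pow_eq_one (by
        rw [hd, ← SubmonoidClass.coe_pow, show (z' * z⁻¹) ^ 2 ^ i = 1 from congrArg Subtype.val hi, Subgroup.coe_one]))
    rw [orderOf_eq_one_iff, hd] at h1
    have h4 : z' = z := mul_inv_eq_one.mp (Subtype.ext h1)
    rw [h4] at hze
    exact (mul_inv_eq_iff_eq_mul.mp hze.symm)
  have hcom : ∀ z ∈ Q, Commute α (z : permGrp X (X ⧸ H)) := by
    intro z hz
    obtain ⟨s, hs, hse, hsy⟩ := hlift z hz
    rcases hsy with hsy | hsy
    · exact hcentQ hz hse hsy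
    obtain ⟨z', hz', hze⟩ := hQn habase hz
    obtain ⟨s', hs', hse', hsy'⟩ := hlift z' hz'
    rcases hsy' with hsy' | hsy'
    · -- then `z` is `z'`
      have h1 := hcentQ hz' hse' hsy'
      have h3 : α⁻¹ * z' * α = z := by rw [hze]; group
      rw [mul_assoc, ← h1.eq, inv_mul_cancel_left] at h3
      rw [← h3]; exact h1
    -- the quotient of the lifts centralises `y`
    set k := z⁻¹ * z' with hk
    have hkQ : k ∈ Q := mul_mem (inv_mem hz) hz'
    have hkc : Commute α k := by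
      refine hcentQ hkQ (s := s⁻¹ * s') (by rw [map_mul, map_inv, hse, hse']; rfl) ?_
      calc s⁻¹ * s' * y * (s⁻¹ * s')⁻¹ = s⁻¹ * (s' * y * s'⁻¹) * s := by group
        _ = s⁻¹ * (s * y * s⁻¹) * s := by rw [hsy', hsy]
        _ = y := by group
    have hpow : ∀ n : ℕ, α ^ n * z * (α ^ n)⁻¹ = z * (k : permGrp X (X ⧸ H)) ^ n := by
      intro n
      induction n with
      | zero => simp
      | succ n ih =>
        calc α ^ (n + 1) * z * (α ^ (n + 1))⁻¹ = α * (α ^ n * z * (α ^ n)⁻¹) * α⁻¹ := by rw [pow_succ']; group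
          _ = α * z * α⁻¹ * (α * (k : permGrp X (X ⧸ H)) ^ n * α⁻¹) := by rw [ih]; group
          _ = z * (k : permGrp X (X ⧸ H)) * (k : permGrp X (X ⧸ H)) ^ n := by
            rw [(hkc.pow_right n).eq, mul_inv_cancel_right, ← hze]
            simp only [hk, Subgroup.coe_mul, Subgroup.coe_inv, mul_inv_cancel_left]
          _ = _ := by rw [mul_assoc, ← pow_succ']
    have hn1 := hpow (orderOf α)
    rw [pow_orderOf_eq_one, one_mul, inv_one, mul_one, left_eq_mul] at hn1
    obtain ⟨i, hi⟩ := hQ2 ⟨k, hkQ⟩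
    have hk1 : (k : permGrp X (X ⧸ H)) = 1 := orderOf_eq_one_iff.mp (Nat.eq_one_of_dvd_coprimes
      ((Nat.coprime_two_right.mpr (hodd ha)).pow_right i) (orderOf_dvd_of_pow_eq_one hn1)
      (orderOf_dvd_of_pow_eq_one (by
        rw [← SubmonoidClass.coe_pow, show k ^ 2 ^ i = 1 from congrArg Subtype.val hi, Subgroup.coe_one])))
    have h1 := hpow 1
    rw [hk1, one_pow, mul_one, pow_one] at h1
    exact mul_inv_eq_iff_eq_mul.mp h1
  -- regularity
  obtain ⟨b, hb⟩ := F.pt.exists_ne_base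
  have hab : α • b ≠ base H := fun e => hb ((smul_left_cancel_iff α).mp (e.trans habase.symm))
  obtain ⟨q, hq, -⟩ := RankOne.exists_unique_Q hS hb hab
  have hq' : ((q : ↥L) : permGrp X (X ⧸ H)) • b = α • b := hq
  have hpow : ∀ n : ℕ, (α ^ n) • b = (((q : ↥L) : permGrp X (X ⧸ H)) ^ n) • b := by
    intro n
    induction n with
    | zero => rw [pow_zero, pow_zero]
    | succ n ih =>
      rw [pow_succ', mul_smul, ih, ← mul_smul, ((hcom _ q.2).pow_right n).eq, mul_smul, ← hq', ← mul_smul,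
        ← pow_succ]
  have hq1 : ((q : ↥L) : permGrp X (X ⧸ H)) = 1 := by
    have h1 := hpow (orderOf α)
    rw [pow_orderOf_eq_one, one_smul, ← SubmonoidClass.coe_pow] at h1
    have h3 : (q : ↥L) ^ orderOf α = 1 :=
      RankOne.eq_one_of_fix hS (pow_mem q.2 _) hb h1.symm
    obtain ⟨i, hi⟩ := hQ2 q
    have h4 : ((q : ↥L) : ↥L) ^ 2 ^ i = 1 := congrArg Subtype.val hi
    rw [orderOf_eq_one_iff.mp (Nat.eq_one_of_dvd_coprimes ((Nat.coprime_two_right.mpr (hodd ha)).pow_right i)
      (orderOf_dvd_of_pow_eq_one h3) (orderOf_dvd_of_pow_eq_one h4)), Subgroup.coe_one]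
  refine FaithfulSMul.eq_of_smul_eq_smul (α := X ⧸ H) fun p => ?_
  rw [one_smul]
  by_cases hp : p = base H
  · rw [hp]; exact habase
  obtain ⟨w, hw, -⟩ := RankOne.exists_unique_Q hS hb hp
  have hw' : ((w : ↥L) : permGrp X (X ⧸ H)) • b = p := hw
  rw [← hw', ← mul_smul, (hcom _ w.2).eq, mul_smul, ← hq', hq1, one_smul]

theorem struct_rigid {v y : X} (hv : v ∈ (P : Subgroup X)) (hvi : IsInv v) (hvt : v ≠ t) (hy : y ∈ (P : Subgroup X))
    (hyi : IsInv y) (hyt : y ≠ t) (hne : img H v ≠ img H y) {B : Subgroup X} (hB : Odd (Nat.card B))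
    (hn : Subgroup.centralizer ({y} : Set X) ≤ Subgroup.normalizer (B : Set X))
    (hBy : B ⊓ Subgroup.centralizer ({y} : Set X) ≤ oddCore X) : B ≤ oddCore X := by
  classical
  refine F.pt.le_core_of_kernel hy hyi hyt
    (fun r hr => ((mem_covC.mp (hM y hy hyi hyt)).2.1 r hr).symm) hB (fun b hb => img_mem_core.mp ?_) hn
  have hvy := F.struct_comm hM hC v hv y hy hvi hyi
  have hyB : ∀ {x}, x ∈ B → y * x * y⁻¹ ∈ B := fun {x} hx =>
    (Subgroup.mem_normalizer_iff.mp (hn (Subgroup.mem_centralizer_singleton_iff.mpr rfl)) x).mp hx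
  have hvB : ∀ {x}, x ∈ B → v * x * v⁻¹ ∈ B := fun {x} hx =>
    (Subgroup.mem_normalizer_iff.mp (hn (Subgroup.mem_centralizer_singleton_iff.mpr hvy.eq)) x).mp hx
  -- no element of the image is centralised by `y`
  have hfree : ∀ {x}, x ∈ B → Commute (img H y) (img H x) → img H x = 1 := by
    intro x hx hc
    set k := x⁻¹ * (y * x * y⁻¹) with hk
    have hkB : k ∈ B := mul_mem (inv_mem hx) (hyB hx)
    have hkK : img H k = 1 := by
      rw [hk, map_mul, map_inv, map_mul, map_mul, map_inv, hc.eq, mul_inv_cancel_right, inv_mul_cancel]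
    obtain ⟨m, hm⟩ := CfsgLib.Involutions.exists_sqrt (hB.of_dvd_nat (Subgroup.orderOf_dvd_natCard B hkB))
    have hinv : y * k * y⁻¹ = k⁻¹ := by
      rw [hk]
      simp only [mul_inv_rev, inv_inv, hyi.inv, mul_assoc]
      rw [show y * y = 1 from hyi.2, mul_one]
    have hpow : y * k ^ m * y⁻¹ = (k ^ m)⁻¹ := by rw [← conj_pow, hinv, inv_pow]
    have hx' : x * k ^ m ∈ B ⊓ Subgroup.centralizer ({y} : Set X) := by
      refine ⟨mul_mem hx (pow_mem hkB m), Subgroup.mem_centralizer_singleton_iff.mpr ?_⟩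
      have h1 : y * (x * k ^ m) * y⁻¹ = x * k ^ m := by
        calc y * (x * k ^ m) * y⁻¹ = (y * x * y⁻¹) * (y * k ^ m * y⁻¹) := by group
          _ = x * (k ^ m * k ^ m) * (k ^ m)⁻¹ := by rw [hpow, hm, hk, mul_inv_cancel_left]
          _ = x * k ^ m := by group
      exact (mul_inv_eq_iff_eq_mul.mp h1).symm
    have h2 := img_mem_core.mpr (F.core_le_kernel (hBy hx'))
    rwa [map_mul, map_pow, hkK, one_pow, mul_one] at h2
  -- so `y` inverts the image
  have hinvert : ∀ {x}, x ∈ B → img H y * img H x * (img H y)⁻¹ = (img H x)⁻¹ := by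
    intro x hx
    obtain ⟨m, hm⟩ := CfsgLib.Involutions.exists_sqrt
      (hB.of_dvd_nat (Subgroup.orderOf_dvd_natCard B (mul_mem (inv_mem hx) (hyB hx))))
    set k := x⁻¹ * (y * x * y⁻¹) with hk
    have hinv : y * k * y⁻¹ = k⁻¹ := by
      rw [hk]
      simp only [mul_inv_rev, inv_inv, hyi.inv, mul_assoc]
      rw [show y * y = 1 from hyi.2, mul_one]
    have hpow : y * k ^ m * y⁻¹ = (k ^ m)⁻¹ := by rw [← conj_pow, hinv, inv_pow]
    have h1 : y * (x * k ^ m) * y⁻¹ = x * k ^ m := by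
      calc y * (x * k ^ m) * y⁻¹ = (y * x * y⁻¹) * (y * k ^ m * y⁻¹) := by group
        _ = x * (k ^ m * k ^ m) * (k ^ m)⁻¹ := by rw [hpow, hm, hk, mul_inv_cancel_left]
        _ = x * k ^ m := by group
    have hkB : k ∈ B := mul_mem (inv_mem hx) (hyB hx)
    have h2 := hfree (mul_mem hx (pow_mem hkB m)) ((show Commute y (x * k ^ m) from mul_inv_eq_iff_eq_mul.mp h1).map (img H))
    rw [map_mul] at h2
    rw [eq_inv_of_mul_eq_one_left h2, inv_inv]
    simp only [← map_inv, ← map_mul]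
    refine congrArg (img H) ?_
    rw [show y * (k ^ m)⁻¹ * y⁻¹ = (y * k ^ m * y⁻¹)⁻¹ by group, hpow, inv_inv]
  -- an element of the image fixing the base point is trivial
  have hfix : ∀ {x}, x ∈ B → img H x • base H = base H → img H x = 1 := by
    intro x hx hxb
    refine eq_one_of_odd ?_ (odd_img hB hx)
    have hb2 : img H x * img H x ∈ baseGrp L := by
      have hyb : img H y ∈ baseGrp L := F.mem_over hyi (F.pt.P_le hy)
      have h1 : img H x * img H x = img H x * img H y * (img H x)⁻¹ * (img H y)⁻¹ := by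
        calc img H x * img H x = img H x * (img H y * (img H x)⁻¹ * (img H y)⁻¹) := by
              rw [show img H y * (img H x)⁻¹ * (img H y)⁻¹ = (img H y * img H x * (img H y)⁻¹)⁻¹ by group, hinvert hx,
                inv_inv]
          _ = _ := by simp only [mul_assoc]
      rw [h1]
      exact mul_mem ((Subgroup.mem_normalizer_iff.mp (F.baseGrp_norm hxb) _).mp hyb) (inv_mem hyb)
    have hodd2 : Odd (orderOf (img H (x * x))) := odd_img hB (mul_mem hx hx)
    rw [map_mul] at hodd2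
    exact eq_one_of_odd (F.baseGrp_sq hb2) hodd2
  -- `v` and `v y` each centralise only that
  have hcentral : ∀ {w}, w ∈ (P : Subgroup X) → IsInv w → w ≠ t → ∀ {x}, x ∈ B →
      Commute (img H w) (img H x) → img H x = 1 := by
    intro w hw hwi hwt x hx hc
    refine hfix hx (F.pt.eq_of_fix hwi hwt ?_ (fix_base.mpr (F.pt.P_le hw)))
    show img H w • img H x • base H = img H x • base H
    rw [← mul_smul, hc.eq, mul_smul]
    exact congrArg _ (fix_base.mpr (F.pt.P_le hw))
  have hyI := hinvert (hvB hb)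
  have hvyi : IsInv (v * y) := ⟨fun e => hne (by rw [eq_inv_of_mul_eq_one_left e, hyi.inv]),
    by rw [hvy.symm.mul_mul_mul_comm, hvi.2, hyi.2, one_mul]⟩
  have hvyt : v * y ≠ t := fun e => hne (by
    rw [show v = t * y by rw [← e, mul_assoc, hyi.2, mul_one], map_mul, F.pt.img_t, one_mul])
  have hvinv : img H v * img H b * (img H v)⁻¹ = (img H b)⁻¹ := by
    have hbv : b * (v * b * v⁻¹) ∈ B := mul_mem hb (hvB hb)
    refine eq_inv_of_mul_eq_one_right ?_
    have h1 : img H (b * (v * b * v⁻¹)) = 1 := by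
      refine hcentral hv hvi hvt hbv ?_
      have hcomm : Commute (img H b) (img H (v * b * v⁻¹)) := by
        have e1 := hinvert (mul_mem hb (hvB hb))
        rw [map_mul, mul_inv_rev] at e1
        have e2 : img H y * (img H b * img H (v * b * v⁻¹)) * (img H y)⁻¹ =
            (img H b)⁻¹ * (img H (v * b * v⁻¹))⁻¹ := by
          calc _ = img H y * img H b * (img H y)⁻¹ * (img H y * img H (v * b * v⁻¹) * (img H y)⁻¹) := by group
            _ = _ := by rw [hinvert hb, hyI]
        rw [e1, ← mul_inv_rev, ← mul_inv_rev, inv_inj] at e2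
        exact e2
      show img H v * img H (b * (v * b * v⁻¹)) = img H (b * (v * b * v⁻¹)) * img H v
      have e3 : img H v * img H (b * (v * b * v⁻¹)) * (img H v)⁻¹ = img H (b * (v * b * v⁻¹)) := by
        rw [← map_inv, ← map_mul, ← map_mul, show v * (b * (v * b * v⁻¹)) * v⁻¹ = v * b * v⁻¹ * (v * v * b * (v * v)⁻¹) by group,
          show v * v = 1 from hvi.2, one_mul, inv_one, mul_one, map_mul, map_mul (img H) b, hcomm.eq]
      exact mul_inv_eq_iff_eq_mul.mp e3
    rwa [map_mul, map_mul, map_mul, map_inv] at h1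
  refine hcentral (mul_mem hv hy) hvyi hvyt hb ?_
  show img H (v * y) * img H b = img H b * img H (v * y)
  refine mul_inv_eq_iff_eq_mul.mp ?_
  rw [map_mul]
  calc img H v * img H y * img H b * (img H v * img H y)⁻¹
      = img H v * (img H y * img H b * (img H y)⁻¹) * (img H v)⁻¹ := by group
    _ = (img H v * img H b * (img H v)⁻¹)⁻¹ := by rw [hinvert hb]; group
    _ = img H b := by rw [hvinv, inv_inv]

theorem struct_trans {y z : X} (hy : y ∈ (P : Subgroup X)) (hz : z ∈ (P : Subgroup X)) (hyi : IsInv y) (hyt : y ≠ t)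
    (hzi : IsInv z) (hzt : z ≠ t) :
    ∃ h ∈ H, (∀ x ∈ (P : Subgroup X), IsInv x → h * x * h⁻¹ ∈ (P : Subgroup X)) ∧
      (h * y * h⁻¹ = z ∨ h * y * h⁻¹ = z * t) := by
  obtain ⟨g, hgH, -, hgC, hg⟩ := F.exists_transport (hM y hy hyi hyt) (F.pt.img_ne_one hyi hyt) (hM z hz hzi hzt)
    (F.pt.img_ne_one hzi hzt)
  refine ⟨g, hgH, fun x hx hxi => ?_, ?_⟩
  · by_cases hxt : x = t
    · rw [hxt, (F.pt.central g).eq, mul_inv_cancel_right]; exact F.pt.t_mem_P
    · exact (mem_covC.mp (hgC x (hM x hx hxi hxt))).1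
  · have hc : Commute (g * y * g⁻¹) z := hC _ (hgC y (hM y hy hyi hyt)) z (hM z hz hzi hzt)
    rcases F.pt.eq_one_or_t (x := g * y * g⁻¹ * z) (by rw [hc.symm.mul_mul_mul_comm, (hyi.conj g).2, hzi.2, one_mul])
      (img_mem_core.mp (by rw [map_mul, hg, (F.pt.img_inv hzi hzt).2])) with e | e
    · exact Or.inl (by rw [eq_inv_of_mul_eq_one_left e, hzi.inv])
    · exact Or.inr (by rw [eq_mul_inv_of_mul_eq e, hzi.inv, (F.pt.central z).eq])

end StructPart

end Frame

/-- Without failure: commuting members with balance and rigidity, or the exceptional outcome. -/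
theorem Pt.dichotomy {y : X} (h : Pt H P t) (hy : IsY P t y) (hNF : NF H y) :
    Struct H P t ∨ (Pairs P t ∧ SquaresEq t) := by
  obtain ⟨L, F⟩ := h.exists_frame hy hNF
  obtain ⟨v, hv, hvi, hvt, hvy, hvyt, hvc⟩ := h.exists_partner hy
  have hpair : ∀ {a b : X}, a ∈ (P : Subgroup X) → IsInv a → b ∈ (P : Subgroup X) → IsInv b → Commute a b →
      a ≠ b → a ≠ b * t → img H a ≠ img H b := by
    intro a b ha hai hb hbi hc h1 h2 e
    by_cases hbt : b = t
    · subst hbt
      rw [h.img_t] at e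
      exact h.img_ne_one hai h1 e
    rcases h.eq_one_or_t (x := a * b) (by rw [hc.symm.mul_mul_mul_comm, hai.2, hbi.2, one_mul])
      (img_mem_core.mp (by rw [map_mul, e, (h.img_inv hbi hbt).2])) with e' | e'
    · exact h1 (by rw [eq_inv_of_mul_eq_one_left e', hbi.inv])
    · exact h2 (by rw [eq_mul_inv_of_mul_eq e', hbi.inv, (h.central b).eq])
  have hne := hpair hv hvi hy.mem hy.inv hvc hvy hvyt
  rcases F.comm_or_pairs hv hy.mem hvi hy.inv hvt hy.ne hvc hne with ⟨hM, hC⟩ | hp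
  · refine Or.inl ⟨F.struct_comm hM hC, fun a ha b hb hai hat hbi hbt => F.struct_trans hM hC ha hb hai hat hbi hbt,
      fun a ha hai hat A hA hAC hn => F.struct_bal hM hC ha hai hat hA hAC hn, fun a ha hai hat B hB _ hn hBy => ?_⟩
    by_cases e : img H v = img H a
    · exact F.struct_rigid hM hC hy.mem hy.inv hy.ne ha hai hat (e ▸ hne.symm) hB hn hBy
    · exact F.struct_rigid hM hC hv hvi hvt ha hai hat e hB hn hBy
  · exact Or.inr ⟨hp, F.squaresEq⟩

end CfsgLib.CoreKill.Local
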