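import Cfsg.Prelude.Def_CaseTheorems
import Cfsg.Agent.Lib.Bender.Assembly

/-!
The centraliser `X` of a bad involution `t` seen through `H = X ∩ M`, abstractly: the members, that is the
involutions other than `t`, fix exactly one coset of `H`. What the local analysis delivers.

Blueprint: `blueprint/bender/CoreKill.md`, 2.
-/

set_option autoImplicit false

namespace CfsgLib.CoreKill.Local

open Cfsg
open CfsgLib.Bender.TwoClosed (IsInv)

universe u

variable {X : Type u} [Group X]

/-- The setting without the rank condition: `t` is a central involution in the proper subgroup `H`, which contains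
the Sylow subgroup `P`, and an involution other than `t` fuses into `H` through `H` only. -/
structure Pt0 (H : Subgroup X) (P : Sylow 2 X) (t : X) : Prop where
  ne_top : H ≠ ⊤
  P_le : (P : Subgroup X) ≤ H
  inv : IsInv t
  central : ∀ x : X, Commute x t
  fix : ∀ v ∈ H, IsInv v → v ≠ t → ∀ x : X, x * v * x⁻¹ ∈ H → x ∈ H

/-- The setting: moreover `P` has an elementary subgroup of order eight. -/
structure Pt (H : Subgroup X) (P : Sylow 2 X) (t : X) : Prop extends Pt0 H P t where
  eight : ∃ B ≤ (P : Subgroup X), IsElementaryAbelian 2 B ∧ 8 ≤ Nat.card B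

/-- Every member of `P` lies with `t` in an elementary subgroup of order eight of `P`. -/
def Over (P : Sylow 2 X) (t : X) : Prop :=
  ∀ v ∈ (P : Subgroup X), IsInv v → v ≠ t →
    ∃ B ≤ (P : Subgroup X), IsElementaryAbelian 2 B ∧ 8 ≤ Nat.card B ∧ t ∈ B ∧ v ∈ B

/-- An involution of `P` other than `t` whose `P`-conjugates differ from it by a power of `t`. -/
structure IsY (P : Sylow 2 X) (t y : X) : Prop where
  mem : y ∈ (P : Subgroup X)
  inv : IsInv y
  ne : y ≠ t
  conj : ∀ s ∈ (P : Subgroup X), s * y * s⁻¹ = y ∨ s * y * s⁻¹ = y * t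

/-- No failure for the class of `y`: when the images of two conjugates commute and differ, their product fixes only
their point. -/
def NF (H : Subgroup X) (y : X) : Prop :=
  ∀ g g' : X, ¬ (∀ c : X ⧸ H, (g * y * g⁻¹ * (g' * y * g'⁻¹)) • c = c) →
    (∀ c : X ⧸ H, (g * y * g⁻¹ * (g' * y * g'⁻¹) * (g * y * g⁻¹ * (g' * y * g'⁻¹))) • c = c) →
    ∀ c : X ⧸ H, (g * y * g⁻¹ * (g' * y * g'⁻¹)) • c = c → (g * y * g⁻¹) • c = c

/-- An involution that is the square of a product of two involutions is `t`. -/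
def SquaresEq (t : X) : Prop :=
  ∀ p q : X, IsInv p → IsInv q → IsInv ((p * q) * (p * q)) → (p * q) * (p * q) = t

/-- The exceptional outcome: every member of `P` centralises two involutions whose product has square `t`. -/
def Pairs (P : Sylow 2 X) (t : X) : Prop :=
  ∀ u ∈ (P : Subgroup X), IsInv u → u ≠ t → ∃ p q : X, IsInv p ∧ IsInv q ∧ Commute p u ∧ Commute q u ∧
    (p * q) * (p * q) = t

/-- The structure of a centraliser without failure. -/
structure Struct (H : Subgroup X) (P : Sylow 2 X) (t : X) : Prop where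
  /-- The involutions of `P` commute. -/
  comm : ∀ x ∈ (P : Subgroup X), ∀ y ∈ (P : Subgroup X), IsInv x → IsInv y → Commute x y
  /-- `H` permutes the members of `P` transitively modulo `t`. -/
  trans : ∀ y ∈ (P : Subgroup X), ∀ z ∈ (P : Subgroup X), IsInv y → y ≠ t → IsInv z → z ≠ t →
    ∃ h ∈ H, (∀ x ∈ (P : Subgroup X), IsInv x → h * x * h⁻¹ ∈ (P : Subgroup X)) ∧
      (h * y * h⁻¹ = z ∨ h * y * h⁻¹ = z * t)
  /-- Balance at a member. -/
  bal : ∀ y ∈ (P : Subgroup X), IsInv y → y ≠ t → ∀ A : Subgroup X, Odd (Nat.card A) →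
    A ≤ Subgroup.centralizer ({y} : Set X) →
    Subgroup.centralizer ({y} : Set X) ≤ Subgroup.normalizer (A : Set X) → A ≤ oddCore X
  /-- Rigidity at a member. -/
  rigid : ∀ y ∈ (P : Subgroup X), IsInv y → y ≠ t → ∀ B : Subgroup X, Odd (Nat.card B) → oddCore X ≤ B →
    Subgroup.centralizer ({y} : Set X) ≤ Subgroup.normalizer (B : Set X) →
    B ⊓ Subgroup.centralizer ({y} : Set X) ≤ oddCore X → B ≤ oddCore X

/-- The quaternion outcome of the analysis without failure: five points, `R` the Sylow subgroup of the kernel in `P`,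
`C` a quaternion group of order eight covering the four group of the base point and centralised by `R`. -/
structure Quat (H : Subgroup X) (P : Sylow 2 X) (t : X) (R C : Subgroup X) : Prop where
  R_eq : R = (P : Subgroup X) ⊓ H.normalCore
  R_center : ∀ r ∈ R, (∀ r' ∈ R, Commute r r') → r = 1 ∨ r = t
  partner : ∀ r ∈ R, r * r = t → ∃ r' ∈ R, r' * r' = t ∧ r * r' = r' * r * t
  C_le : C ≤ (P : Subgroup X)
  C_comm : ∀ c ∈ C, ∀ r ∈ R, Commute c r
  C_inf : ∀ c ∈ C, c ∈ R → c = 1 ∨ c = t
  C_card : Nat.card C = 8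
  C_sq : ∀ c ∈ C, c ≠ 1 → c ≠ t → c * c = t
  C_anti : ∀ c ∈ C, ∀ d ∈ C, c ≠ 1 → c ≠ t → d ≠ 1 → d ≠ t → d ≠ c → d ≠ c * t → c * d = d * c * t
  five : H.index = 5
  /-- A member of `P` is a product of elements of square `t` from `R` and from `C`. -/
  member : ∀ u ∈ (P : Subgroup X), IsInv u → u ≠ t → ∃ r ∈ R, ∃ c ∈ C, u = r * c ∧ r * r = t ∧ c * c = t
  /-- The centralizer of `R` in `H` permutes `C` transitively modulo `t`. -/
  trans : ∀ c ∈ C, ∀ d ∈ C, c ≠ 1 → c ≠ t → d ≠ 1 → d ≠ t →
    ∃ h ∈ H, (∀ r ∈ R, Commute h r) ∧ (∀ x ∈ C, h * x * h⁻¹ ∈ C) ∧ (h * c * h⁻¹ = d ∨ h * c * h⁻¹ = d * t)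
  /-- An element of `H` centralising `C` as the points see it acts as an element of `C`. -/
  self : ∀ h ∈ H, (∀ c ∈ C, ∀ p : X ⧸ H, (h * c) • p = (c * h) • p) →
    ∃ c ∈ C, ∀ p : X ⧸ H, h • p = c • p

/-- The outcome at a bad involution with failure: one class of members, none of them central in `P`, balance and
rigidity. -/
structure Wide (H : Subgroup X) (P : Sylow 2 X) (t : X) : Prop where
  noCentral : ∀ v ∈ (P : Subgroup X), IsInv v → v ≠ t → ∃ s ∈ (P : Subgroup X), ¬ Commute v s
  oneClass : ∀ u v : X, IsInv u → u ≠ t → IsInv v → v ≠ t → ∃ g : X, g * u * g⁻¹ = v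
  /-- Balance at a member. -/
  bal : ∀ y ∈ (P : Subgroup X), IsInv y → y ≠ t → ∀ A : Subgroup X, Odd (Nat.card A) →
    A ≤ Subgroup.centralizer ({y} : Set X) →
    Subgroup.centralizer ({y} : Set X) ≤ Subgroup.normalizer (A : Set X) → A ≤ oddCore X
  /-- Rigidity at a member. -/
  rigid : ∀ y ∈ (P : Subgroup X), IsInv y → y ≠ t → ∀ B : Subgroup X, Odd (Nat.card B) → oddCore X ≤ B →
    Subgroup.centralizer ({y} : Set X) ≤ Subgroup.normalizer (B : Set X) →
    B ⊓ Subgroup.centralizer ({y} : Set X) ≤ oddCore X → B ≤ oddCore X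

end CfsgLib.CoreKill.Local
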