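import Cfsg.Agent.Lib.CoreKill.Local.Defs
import Cfsg.Agent.Lib.CoreKill.Member
import Cfsg.Agent.Lib.CoreKill.Basic
import Cfsg.Agent.Lib.Bender.Q.Main
import Cfsg.Agent.Lib.Bender.Q.General
import Cfsg.Agent.Lib.RankThreeCentralizer
import Cfsg.Agent.Lib.CoprimeGen

/-!
The permutations induced on the cosets of `H`: without failure the members generate a one-fix action and contain
every involution with one fixed point.

Blueprint: `blueprint/bender/CoreKill.md`, 2.
-/

set_option autoImplicit false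
set_option linter.unusedSectionVars false
set_option linter.style.haveILetI false

namespace CfsgLib.CoreKill.Local

open Cfsg MulAction
open CfsgLib.Bender.TwoClosed (IsInv)
open CfsgLib.Bender.Assembly (orderOf_two isInv_of_orderOf fix_iff)
open CfsgLib.Bender.Q (permGrp permImg permImg_eq_one)

universe u

variable {X : Type u} [Group X] [Finite X] {H : Subgroup X} {P : Sylow 2 X} {t y : X}

/-- The base point. -/
abbrev base (H : Subgroup X) : X ⧸ H := ((1 : X) : X ⧸ H)

/-- The induced permutation. -/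
abbrev img (H : Subgroup X) : X →* permGrp X (X ⧸ H) := permImg X (X ⧸ H)

theorem fix_base {x : X} : x • base H = base H ↔ x ∈ H := by
  rw [fix_iff]; simp

theorem img_smul (x : X) (c : X ⧸ H) : img H x • c = x • c := rfl

theorem img_surj (g : permGrp X (X ⧸ H)) : ∃ x : X, img H x = g :=
  MonoidHom.rangeRestrict_surjective (MulAction.toPermHom X (X ⧸ H)) g

instance finite_permGrp : Finite (permGrp X (X ⧸ H)) :=
  Finite.of_surjective _ (MonoidHom.rangeRestrict_surjective (MulAction.toPermHom X (X ⧸ H)))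

namespace Pt0

variable (h : Pt0 H P t)
include h

theorem t_mem : t ∈ H := by
  haveI : Fact (Nat.Prime 2) := ⟨Nat.prime_two⟩
  obtain ⟨Q, hQ⟩ := (CoreKill.zpowers_inv h.inv).exists_le_sylow
  obtain ⟨g, hg⟩ := MulAction.exists_smul_eq X Q P
  have h1 : g * t * g⁻¹ ∈ (P : Subgroup X) := by
    rw [← hg]; exact ⟨t, hQ (Subgroup.mem_zpowers t), rfl⟩
  rw [(h.central g).symm.eq.symm, mul_inv_cancel_right] at h1
  exact h.P_le h1

theorem t_fix (c : X ⧸ H) : t • c = c := by
  induction c using QuotientGroup.induction_on with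
  | _ g => exact fix_iff.mpr (by rw [mul_assoc, ← (h.central g).eq, inv_mul_cancel_left]; exact h.t_mem)

theorem img_t : img H t = 1 := permImg_eq_one.mpr h.t_fix

/-- A member is conjugate into `P`. -/
theorem exists_conj {v : X} (hv : IsInv v) : ∃ g : X, g * v * g⁻¹ ∈ (P : Subgroup X) := by
  haveI : Fact (Nat.Prime 2) := ⟨Nat.prime_two⟩
  obtain ⟨Q, hQ⟩ := (CoreKill.zpowers_inv hv).exists_le_sylow
  obtain ⟨g, hg⟩ := MulAction.exists_smul_eq X Q P
  exact ⟨g, hg ▸ ⟨v, hQ (Subgroup.mem_zpowers v), rfl⟩⟩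

theorem ne_conj {v : X} (hne : v ≠ t) (g : X) : g * v * g⁻¹ ≠ t := fun e => hne (by
  rw [show v = g⁻¹ * (g * v * g⁻¹) * g by group, e, mul_assoc, ← (h.central g).eq, inv_mul_cancel_left])

/-- A member fixes exactly one point. -/
theorem one_fix {v : X} (hv : IsInv v) (hne : v ≠ t) : ∃! c : X ⧸ H, v • c = c := by
  obtain ⟨g, hg⟩ := h.exists_conj hv
  refine ⟨((g⁻¹ : X) : X ⧸ H), fix_iff.mpr (by simpa using h.P_le hg), fun c hc => ?_⟩
  induction c using QuotientGroup.induction_on with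
  | _ k =>
    refine QuotientGroup.eq.mpr (h.fix (g * v * g⁻¹) (h.P_le hg) (hv.conj g) (h.ne_conj hne g) (k⁻¹ * g⁻¹) ?_)
    rw [show k⁻¹ * g⁻¹ * (g * v * g⁻¹) * (k⁻¹ * g⁻¹)⁻¹ = k⁻¹ * v * k by group]
    exact fix_iff.mp hc

theorem eq_of_fix {v : X} (hv : IsInv v) (hne : v ≠ t) {c d : X ⧸ H} (hc : v • c = c) (hd : v • d = d) : c = d :=
  (h.one_fix hv hne).unique hc hd

theorem commute_fix {v x : X} (hv : IsInv v) (hne : v ≠ t) {c : X ⧸ H} (hc : v • c = c) (hxv : x * v = v * x) :
    x • c = c :=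
  h.eq_of_fix hv hne (by rw [← mul_smul, ← hxv, mul_smul, hc]) hc

theorem exists_ne_base : ∃ c : X ⧸ H, c ≠ base H := by
  obtain ⟨g, -, hg⟩ := SetLike.exists_of_lt (lt_top_iff_ne_top.mpr h.ne_top)
  exact ⟨(g : X ⧸ H), fun e => hg (by simpa using QuotientGroup.eq.mp e.symm)⟩

theorem img_ne_one {v : X} (hv : IsInv v) (hne : v ≠ t) : img H v ≠ 1 := fun e => by
  obtain ⟨c, hc⟩ := h.exists_ne_base
  exact hc (h.eq_of_fix hv hne (permImg_eq_one.mp e c) (permImg_eq_one.mp e _))

theorem img_inv {v : X} (hv : IsInv v) (hne : v ≠ t) : IsInv (img H v) :=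
  ⟨h.img_ne_one hv hne, by rw [← map_mul, hv.2, map_one]⟩

/-- The only involution fixing every point is `t`. -/
theorem eq_t {v : X} (hv : IsInv v) (hfix : ∀ c : X ⧸ H, v • c = c) : v = t := by
  by_contra hne
  exact h.img_ne_one hv hne (permImg_eq_one.mpr hfix)

/-- The central half of the product of two conjugates of `y`, as the points see it, fixes only their point. -/
theorem half_fix (hy : IsY P t y) (hNF : NF H y) (g g' : X)
    (hk : Even (orderOf (img H (g * y * g⁻¹ * (g' * y * g'⁻¹))))) (c : X ⧸ H)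
    (hc : ((g * y * g⁻¹ * (g' * y * g'⁻¹)) ^ (orderOf (img H (g * y * g⁻¹ * (g' * y * g'⁻¹))) / 2)) • c = c) :
    (g * y * g⁻¹) • c = c := by
  have hp : IsInv (g * y * g⁻¹) := hy.inv.conj g
  set p := g * y * g⁻¹ with hpdef
  set q := g' * y * g'⁻¹ with hqdef
  have hq : IsInv q := hy.inv.conj g'
  set k := orderOf (img H (p * q)) with hkdef
  set w := (p * q) ^ (k / 2) with hwdef
  obtain ⟨g'', hg''⟩ : ∃ g'' : X, g'' * y * g''⁻¹ = w * p := by
    have : ∀ n : ℕ, ∃ g'' : X, g'' * y * g''⁻¹ = (p * q) ^ n * p := by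
      intro n
      induction n using Nat.twoStepInduction with
      | zero => exact ⟨g, by rw [pow_zero, one_mul]⟩
      | one => exact ⟨p * g', by rw [pow_one, hqdef, mul_inv_rev, hp.inv]; group⟩
      | more n ih _ =>
        obtain ⟨g₀, hg₀⟩ := ih
        refine ⟨(p * q) * g₀, ?_⟩
        rw [show p * q * g₀ * y * (p * q * g₀)⁻¹ = p * q * (g₀ * y * g₀⁻¹) * (p * q)⁻¹ by group, hg₀,
          mul_inv_rev, hp.inv, hq.inv, pow_succ', pow_succ, ← mul_assoc (p * q)]
        simp only [mul_assoc]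
    exact this _
  have hk0 : 0 < k := orderOf_pos _
  have hk2 : k / 2 * 2 = k := by obtain ⟨l, hl⟩ := hk; omega
  have hprod : g'' * y * g''⁻¹ * (g * y * g⁻¹) = w := by rw [hg'', ← hpdef, mul_assoc, hp.2, mul_one]
  have h1 := hNF g'' g (by
      rw [hprod]
      intro hall
      have he := permImg_eq_one.mpr hall
      rw [hwdef, map_pow] at he
      have hle : k ≤ k / 2 := Nat.le_of_dvd (by omega) (orderOf_dvd_of_pow_eq_one he)
      omega) (fun d => by
      rw [hprod]
      refine permImg_eq_one.mp ?_ d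
      rw [hwdef, ← pow_add, map_pow, ← mul_two, hk2, pow_orderOf_eq_one]) c (by rw [hprod]; exact hc)
  rw [hg''] at h1
  calc p • c = w⁻¹ • ((w * p) • c) := by rw [← mul_smul, inv_mul_cancel_left]
    _ = c := by rw [h1]; exact inv_smul_eq_iff.mpr hc.symm

/-- Hypothesis Q for the images of the conjugates of `y`. -/
theorem hyp (hy : IsY P t y) (hNF : NF H y) :
    Bender.Q.Hyp (permGrp X (X ⧸ H)) (X ⧸ H) (img H '' conjugatesOf y) where
  inv := by
    rintro _ ⟨x, hx, rfl⟩
    obtain ⟨g, rfl⟩ := isConj_iff.mp hx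
    exact h.img_inv (hy.inv.conj g) (h.ne_conj hy.ne g)
  conj := by
    rintro _ ⟨x, hx, rfl⟩ g
    obtain ⟨g, rfl⟩ := img_surj g
    exact ⟨g * x * g⁻¹, hx.trans (isConj_iff.mpr ⟨g, rfl⟩), by rw [map_mul, map_mul, map_inv]⟩
  one_fix := by
    rintro _ ⟨x, hx, rfl⟩
    obtain ⟨g, rfl⟩ := isConj_iff.mp hx
    exact h.one_fix (hy.inv.conj g) (h.ne_conj hy.ne g)
  exists_at := fun c => by
    induction c using QuotientGroup.induction_on with
    | _ g => exact ⟨_, ⟨g * y * g⁻¹, isConj_iff.mpr ⟨g, rfl⟩, rfl⟩,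
        fix_iff.mpr (by simpa [mul_assoc] using h.P_le hy.mem)⟩
  nontriv := by
    obtain ⟨c, hc⟩ := h.exists_ne_base
    exact ⟨⟨c, base H, hc⟩⟩
  two_cent := by
    intro P' a hP hPa
    haveI : Fact (Nat.Prime 2) := ⟨Nat.prime_two⟩
    let K : Subgroup X := P'.comap (img H)
    let f : K →* P' := ((img H).comp K.subtype).codRestrict P' fun k => k.2
    have hf : Function.Surjective f := fun z => by
      obtain ⟨x, hx⟩ := img_surj (z : permGrp X (X ⧸ H))
      exact ⟨⟨x, show img H x ∈ P' by rw [hx]; exact z.2⟩, Subtype.ext hx⟩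
    let S : Sylow 2 K := default
    induction a using QuotientGroup.induction_on with
    | _ g =>
      obtain ⟨m, hm, hmS⟩ := Bender.Q.exists_conj_sylow h.P_le
        ((S.isPGroup'.map K.subtype).map (MulAut.conj g⁻¹).toMonoidHom) (by
          rintro _ ⟨_, ⟨s, -, rfl⟩, rfl⟩
          simpa [mul_assoc] using fix_iff.mp (hPa _ s.2))
      refine ⟨_, ⟨(g * m⁻¹) * y * (g * m⁻¹)⁻¹, isConj_iff.mpr ⟨_, rfl⟩, rfl⟩, ?_, fun x hx => ?_⟩
      · refine fix_iff.mpr ?_
        rw [show g⁻¹ * (g * m⁻¹ * y * (g * m⁻¹)⁻¹) * g = m⁻¹ * y * m by group]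
        exact mul_mem (mul_mem (inv_mem hm) (h.P_le hy.mem)) hm
      have h1 := (S.mapSurjective hf).is_maximal' (IsPGroup.to_le hP le_rfl |>.to_subgroup ⊤) le_top
      obtain ⟨s, hs, hse⟩ : (⟨x, hx⟩ : P') ∈ ((S.mapSurjective hf : Sylow 2 P') : Subgroup P') :=
        h1 ▸ Subgroup.mem_top _
      have hse' : img H (s : X) = x := congrArg Subtype.val hse
      rw [← hse']
      set v := g * m⁻¹ * y * (g * m⁻¹)⁻¹ with hv
      rcases hy.conj _ (hmS _ ⟨_, ⟨s, hs, rfl⟩, rfl⟩) with e | e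
      · rw [← map_mul, ← map_mul]
        congr 1
        have e' : (s : X) * v * (s : X)⁻¹ = v := by
          calc (s : X) * v * (s : X)⁻¹
              = g * m⁻¹ * ((m * (g⁻¹ * s * g⁻¹⁻¹) * m⁻¹) * y * (m * (g⁻¹ * s * g⁻¹⁻¹) * m⁻¹)⁻¹) * (g * m⁻¹)⁻¹ := by
                rw [hv]; group
            _ = v := by simp only [MulEquiv.coe_toMonoidHom, MulAut.conj_apply, Subgroup.coe_subtype] at e; rw [e]
        exact mul_inv_eq_iff_eq_mul.mp e'
      · rw [← map_mul, ← map_mul]
        have e' : (s : X) * v * (s : X)⁻¹ = v * t := by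
          calc (s : X) * v * (s : X)⁻¹
              = g * m⁻¹ * ((m * (g⁻¹ * s * g⁻¹⁻¹) * m⁻¹) * y * (m * (g⁻¹ * s * g⁻¹⁻¹) * m⁻¹)⁻¹) * (g * m⁻¹)⁻¹ := by
                rw [hv]; group
            _ = g * m⁻¹ * (y * t) * (g * m⁻¹)⁻¹ := by
              simp only [MulEquiv.coe_toMonoidHom, MulAut.conj_apply, Subgroup.coe_subtype] at e; rw [e]
            _ = v * t := by
              rw [hv, mul_assoc _ (g * m⁻¹)⁻¹ t, (h.central (g * m⁻¹)⁻¹).eq]
              simp only [mul_assoc]
        rw [mul_inv_eq_iff_eq_mul.mp e', mul_assoc, ← (h.central (s : X)).eq, ← mul_assoc]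
        rw [map_mul, h.img_t, mul_one]
  odd_mul := by
    rintro _ ⟨p, hp, rfl⟩ _ ⟨q, hq, rfl⟩ c d hc hd hne
    obtain ⟨g, rfl⟩ := isConj_iff.mp hp
    obtain ⟨g', rfl⟩ := isConj_iff.mp hq
    rw [← Nat.not_even_iff_odd]
    intro hk
    rw [← map_mul] at hk
    have hpi := h.img_inv (hy.inv.conj g) (h.ne_conj hy.ne g)
    have hqi := h.img_inv (hy.inv.conj g') (h.ne_conj hy.ne g')
    obtain ⟨h1, h2⟩ := CfsgLib.Involutions.central_half hpi.2 hqi.2 (by rwa [← map_mul])
    rw [← map_mul, ← map_pow] at h1 h2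
    set w := (g * y * g⁻¹ * (g' * y * g'⁻¹)) ^ (orderOf (img H (g * y * g⁻¹ * (g' * y * g'⁻¹))) / 2)
    have hwc : w • c = c := h.eq_of_fix (hy.inv.conj g) (h.ne_conj hy.ne g) (by
      show img H (g * y * g⁻¹) • img H w • c = img H w • c
      rw [← mul_smul, ← h1.eq, mul_smul, hc]) hc
    have hwd : w • d = d := h.eq_of_fix (hy.inv.conj g') (h.ne_conj hy.ne g') (by
      show img H (g' * y * g'⁻¹) • img H w • d = img H w • d
      rw [← mul_smul, ← h2.eq, mul_smul, hd]) hd
    exact hne (h.eq_of_fix (hy.inv.conj g) (h.ne_conj hy.ne g) hc (h.half_fix hy hNF g g' hk d hwd))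
  prod_fix := by
    rintro _ ⟨p, hp, rfl⟩ _ ⟨q, hq, rfl⟩ hne hcomm c hc
    obtain ⟨g, rfl⟩ := isConj_iff.mp hp
    obtain ⟨g', rfl⟩ := isConj_iff.mp hq
    have hpi := h.img_inv (hy.inv.conj g) (h.ne_conj hy.ne g)
    have hqi := h.img_inv (hy.inv.conj g') (h.ne_conj hy.ne g')
    have h2 : orderOf (img H (g * y * g⁻¹ * (g' * y * g'⁻¹))) = 2 := by
      rw [map_mul]
      refine CfsgLib.Involutions.orderOf_eq_two_iff'.mpr ⟨?_, fun e => hne ?_⟩
      · rw [(show Commute _ _ from hcomm).symm.mul_mul_mul_comm, hpi.2, hqi.2, one_mul]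
      · exact (mul_eq_one_iff_eq_inv.mp e).trans hqi.inv
    refine h.half_fix hy hNF g g' (by rw [h2]; exact even_two) c ?_
    rw [h2, show (2 : ℕ) / 2 = 1 from rfl, pow_one]
    rw [← map_mul] at hc
    exact hc

end Pt0

namespace Pt

variable (h : Pt H P t)
include h

/-- There is an involution of `P`, not `t`, whose `P`-conjugates differ by powers of `t`. -/
theorem exists_y : ∃ y, IsY P t y := by
  classical
  haveI : Fact (Nat.Prime 2) := ⟨Nat.prime_two⟩
  obtain ⟨B, hBP, hB, hB8⟩ := h.eight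
  obtain ⟨k, hk⟩ := IsPGroup.iff_card.mp ((P.2.to_le hBP) : IsPGroup 2 B)
  have hk3 : 3 ≤ k := by
    by_contra hlt
    have := Nat.pow_le_pow_right two_pos (show k ≤ 2 by omega)
    rw [← hk] at this
    norm_num at this
    omega
  obtain ⟨B', hB'B, hB'c⟩ : ∃ B' : Subgroup (P : Subgroup X), B' ≤ B.subgroupOf P ∧ Nat.card B' = 8 := by
    obtain ⟨K, hK⟩ := Sylow.exists_subgroup_card_pow_prime (G := ↥(B.subgroupOf P)) 2 (n := 3) (by
      rw [Nat.card_congr (Subgroup.subgroupOfEquivOfLe hBP).toEquiv, hk]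
      exact pow_dvd_pow 2 hk3)
    exact ⟨K.map (B.subgroupOf P).subtype, Subgroup.map_subtype_le _,
      by rw [Subgroup.card_map_of_injective (B.subgroupOf P).subtype_injective, hK]; norm_num⟩
  obtain ⟨U, hUn, hU4, hU2⟩ := RankThreeCent.exists_normal_four P.2 B' hB'c fun e he =>
    Subtype.ext (by simpa using hB.2 (e : X) (hB'B he))
  haveI := hUn
  have hUinv : ∀ u : ↥(P : Subgroup X), u ∈ U → (u : X) ≠ 1 → IsInv (u : X) := fun u hu hu1 =>
    ⟨hu1, by
      have := congrArg Subtype.val (hU2 u hu)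
      rwa [pow_two] at this⟩
  by_cases htU : ∃ u ∈ U, (u : X) = t
  · obtain ⟨u₀, hu₀, hu₀t⟩ := htU
    obtain ⟨u, hu, hu1, hut⟩ : ∃ u ∈ U, (u : X) ≠ 1 ∧ (u : X) ≠ t := by
      by_contra hcon
      push Not at hcon
      let g : U → Bool := fun e => decide (((e : ↥(P : Subgroup X)) : X) = 1)
      have hg : Function.Injective g := by
        intro a b e
        have e' := decide_eq_decide.mp e
        by_cases ha : ((a : ↥(P : Subgroup X)) : X) = 1
        · exact Subtype.ext (Subtype.ext (ha.trans (e'.mp ha).symm))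
        · exact Subtype.ext (Subtype.ext ((hcon _ a.2 ha).trans (hcon _ b.2 fun hb => ha (e'.mpr hb)).symm))
      have h2 := Nat.card_le_card_of_injective g hg
      rw [Nat.card_eq_fintype_card (α := Bool), Fintype.card_bool, hU4] at h2
      omega
    refine ⟨u, u.2, hUinv u hu hu1, hut, fun s hs => ?_⟩
    set s' : ↥(P : Subgroup X) := ⟨s, hs⟩
    set v := s' * u * s'⁻¹ with hv
    have hvU : v ∈ U := hUn.conj_mem u hu s'
    have hut' : u ≠ u₀ := fun e => hut (e ▸ hu₀t)
    have hmem : ∀ x ∈ U, x = 1 ∨ x = u ∨ x = u₀ ∨ x = u * u₀ := by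
      have hu0 : u ≠ 1 := fun e => hu1 (congrArg Subtype.val e)
      have hu₀1 : u₀ ≠ 1 := fun e => h.inv.1 (hu₀t ▸ congrArg Subtype.val e)
      have hm1 : u * u₀ ≠ 1 := fun e => hut' (by
        rw [eq_inv_of_mul_eq_one_left e]; exact inv_eq_of_mul_eq_one_right (by rw [← pow_two]; exact hU2 _ hu₀))
      intro x hx
      have hsub : ({1, u, u₀, u * u₀} : Set ↥(P : Subgroup X)) ⊆ (U : Set _) := by
        rintro _ (rfl | rfl | rfl | rfl)
        · exact one_mem U
        · exact hu
        · exact hu₀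
        · exact mul_mem hu hu₀
      have hcard : Set.ncard ({1, u, u₀, u * u₀} : Set ↥(P : Subgroup X)) = 4 := by
        rw [Set.ncard_insert_of_notMem (by simp [Ne.symm hu0, Ne.symm hu₀1, Ne.symm hm1]),
          Set.ncard_insert_of_notMem (by simp [hut', hu₀1]),
          Set.ncard_insert_of_notMem (by simp [hu0]), Set.ncard_singleton]
      have heq := Set.eq_of_subset_of_ncard_le hsub (by
        rw [hcard, ← Nat.card_coe_set_eq]; exact hU4.le) (Set.toFinite _)
      simpa using heq.ge hx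
    have hv1 : (v : X) = s * u * s⁻¹ := rfl
    rcases hmem v hvU with e | e | e | e
    · exact absurd (conj_eq_one_iff.mp (hv1.symm.trans (congrArg Subtype.val e))) hu1
    · exact Or.inl (hv1.symm.trans (congrArg Subtype.val e))
    · exact absurd (hv1.symm.trans ((congrArg Subtype.val e).trans hu₀t)) (h.ne_conj hut s)
    · refine Or.inr (hv1.symm.trans ((congrArg Subtype.val e).trans ?_))
      show (u : X) * u₀ = u * t
      rw [hu₀t]
  · push Not at htU
    haveI : Nontrivial U := Finite.one_lt_card_iff_nontrivial.mp (by omega)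
    obtain ⟨z, hzU, hz, hzc⟩ := CfsgLib.Comp.exists_central_in_normal (p := 2) P.isPGroup'
      (Subgroup.map_subtype_le U : U.map (P : Subgroup X).subtype ≤ _)
      (fun s hs => Comp.mem_normalizer_of_maps (by
        rintro _ ⟨x, hx, rfl⟩
        exact ⟨_, hUn.conj_mem x hx ⟨s, hs⟩, rfl⟩))
      (fun e => by
        obtain ⟨⟨x, hx⟩, hx1⟩ := exists_ne (1 : U)
        exact hx1 (Subtype.ext (Subtype.ext (Subgroup.mem_bot.mp (e ▸ ⟨x, hx, rfl⟩)))))
    obtain ⟨x, hx, rfl⟩ := hzU
    refine ⟨_, x.2, isInv_of_orderOf hz, htU x hx, fun s hs => Or.inl ?_⟩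
    rw [(show s * (x : X) = (x : X) * s from hzc s hs), mul_inv_cancel_right]

/-- A member other than `y` and `yt` in `P` commuting with `y`. -/
theorem exists_partner (hy : IsY P t y) :
    ∃ v ∈ (P : Subgroup X), IsInv v ∧ v ≠ t ∧ v ≠ y ∧ v ≠ y * t ∧ Commute v y := by
  classical
  obtain ⟨B, hBP, hB, hB8⟩ := h.eight
  by_contra hcon
  push Not at hcon
  have hB1 : ∀ b ∈ B, b ≠ 1 → IsInv b := fun b hb hb1 => ⟨hb1, by rw [← pow_two]; exact hB.2 b hb⟩
  have key : ∀ b ∈ B, Commute b y → b = 1 ∨ b = t ∨ b = y ∨ b = y * t := by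
    intro b hb hbc
    by_contra hb'
    push Not at hb'
    exact hcon b (hBP hb) (hB1 b hb hb'.1) hb'.2.1 hb'.2.2.1 hb'.2.2.2 hbc
  -- two elements of `B` moving `y` differ by one commuting with it
  have hdiff : ∀ b ∈ B, ∀ c ∈ B, ¬ Commute b y → ¬ Commute c y → Commute (b * c) y := by
    intro b hb c hc hbn hcn
    have h1 : b * y * b⁻¹ = y * t := (hy.conj b (hBP hb)).resolve_left fun e => hbn (mul_inv_eq_iff_eq_mul.mp e)
    have h2 : c * y * c⁻¹ = y * t := (hy.conj c (hBP hc)).resolve_left fun e => hcn (mul_inv_eq_iff_eq_mul.mp e)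
    refine mul_inv_eq_iff_eq_mul.mp ?_
    calc b * c * y * (b * c)⁻¹ = b * (c * y * c⁻¹) * b⁻¹ := by group
      _ = (b * y * b⁻¹) * (b * t * b⁻¹) := by rw [h2]; group
      _ = y * (t * t) := by rw [h1, (h.central b).eq, mul_inv_cancel_right, mul_assoc]
      _ = y := by rw [h.inv.2, mul_one]
  have hb2 : ∀ b ∈ B, b * b = 1 := fun b hb => by rw [← pow_two]; exact hB.2 b hb
  have hsmall : ∀ b ∈ B, Commute b y := by
    by_contra hall
    push Not at hall
    obtain ⟨b, hb, hbn⟩ := hall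
    -- then the elements commuting with `y` are `1, t, y, yt` and `y` is in `B`
    have hyB : y ∉ B := fun hyB => hbn (RankThreeCent.commute_of_exp_two hB.2 hb hyB)
    have hone : ∀ z ∈ B, Commute z y → z = 1 ∨ z = t ∨ z = y * t := fun z hz hzc => by
      rcases key z hz hzc with e | e | e | e
      · exact Or.inl e
      · exact Or.inr (Or.inl e)
      · exact absurd (e ▸ hz) hyB
      · exact Or.inr (Or.inr e)
    have huniq : ∀ c ∈ B, ∀ d ∈ B, Commute c y → Commute d y → c ≠ 1 → d ≠ 1 → c = d := by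
      intro c hc d hd hcy hdy hc1 hd1
      rcases (hone c hc hcy).resolve_left hc1 with e | e <;> rcases (hone d hd hdy).resolve_left hd1 with e' | e'
      · rw [e, e']
      · refine absurd ?_ hyB
        subst e e'
        simpa [mul_assoc, h.inv.2] using mul_mem hd hc
      · refine absurd ?_ hyB
        subst e e'
        simpa [mul_assoc, h.inv.2] using mul_mem hc hd
      · rw [e, e']
    let f : B → Bool × Bool := fun c => (decide (Commute (c : X) y), decide ((c : X) = 1 ∨ b * c = 1))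
    have hf : Function.Injective f := by
      intro c d eq
      have q1 := decide_eq_decide.mp (congrArg Prod.fst eq :)
      have q2 := decide_eq_decide.mp (congrArg Prod.snd eq :)
      by_cases hcy : Commute (c : X) y
      · have hdy := q1.mp hcy
        have hno : ∀ {z : X}, Commute z y → b * z ≠ 1 := fun {z} hz he => hbn (by
          rw [eq_inv_of_mul_eq_one_left he]; exact hz.inv_left)
        by_cases hc1 : (c : X) = 1
        · exact Subtype.ext (hc1.trans ((q2.mp (Or.inl hc1)).resolve_right (hno hdy)).symm)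
        · exact Subtype.ext (huniq _ c.2 _ d.2 hcy hdy hc1 fun hd1 => (q2.mpr (Or.inl hd1)).elim hc1 (hno hcy))
      · have hdy : ¬ Commute (d : X) y := fun e' => hcy (q1.mpr e')
        have hc1 : (c : X) ≠ 1 := fun e' => hcy (e' ▸ Commute.one_left y)
        have hd1 : (d : X) ≠ 1 := fun e' => hdy (e' ▸ Commute.one_left y)
        by_cases hbc : b * (c : X) = 1
        · exact Subtype.ext (mul_left_cancel (hbc.trans ((q2.mp (Or.inr hbc)).resolve_left hd1).symm))
        · exact Subtype.ext (mul_left_cancel (huniq _ (mul_mem hb c.2) _ (mul_mem hb d.2)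
            (hdiff b hb c c.2 hbn hcy) (hdiff b hb d d.2 hbn hdy) hbc fun hbd =>
              (q2.mpr (Or.inr hbd)).elim hc1 hbc))
    have h2 := Nat.card_le_card_of_injective f hf
    rw [Nat.card_eq_fintype_card (α := Bool × Bool), Fintype.card_prod, Fintype.card_bool] at h2
    omega
  have hsub : (B : Set X) ⊆ {1, t, y, y * t} := fun b hb => by
    simpa using key b hb (hsmall b hb)
  have h2 := Set.ncard_le_ncard hsub (Set.toFinite _)
  rw [← Nat.card_coe_set_eq] at h2
  have h3 : Set.ncard ({1, t, y, y * t} : Set X) ≤ 4 := by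
    refine (Set.ncard_insert_le _ _).trans (Nat.succ_le_succ ((Set.ncard_insert_le _ _).trans
      (Nat.succ_le_succ ((Set.ncard_insert_le _ _).trans (Nat.succ_le_succ ?_)))))
    rw [Set.ncard_singleton]
  have h4 : Nat.card B = Nat.card (B : Set X) := rfl
  omega

end Pt

end CfsgLib.CoreKill.Local
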