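import Cfsg.Agent.Lib.CoreKill.Local.Form
import Cfsg.Agent.Lib.ZStar.Main
import Cfsg.Agent.Lib.TIHall.Basic

/-!
An odd subgroup of the kernel normalised by the centraliser of a member which centralises `R` lies in the odd core:
the member is isolated in `K⟨y⟩`, so the kernel is its odd core times the centraliser of the member.

Blueprint: `blueprint/bender/CoreKill.md`, 2.
-/

set_option autoImplicit false
set_option linter.unusedSectionVars false
set_option linter.style.haveILetI false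

namespace CfsgLib.CoreKill.Local

open Cfsg MulAction
open CfsgLib.Bender.TwoClosed (IsInv)
open CfsgLib.Bender.Q (permGrp permImg permImg_eq_one)

universe u

variable {X : Type u} [Group X] [Finite X] {H : Subgroup X} {P : Sylow 2 X} {t : X}

/-- An odd subgroup of a normal subgroup `K` normalised by it lies in the odd core of the whole group. -/
theorem le_core_of_normalized {K A : Subgroup X} [K.Normal] (hA : Odd (Nat.card A)) (hAK : A ≤ K)
    (hn : K ≤ Subgroup.normalizer (A : Set X)) : A ≤ oddCore X := by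
  haveI : (A.subgroupOf K).Normal := (Subgroup.normal_subgroupOf_iff_le_normalizer hAK).mpr hn
  have h1 : A.subgroupOf K ≤ oddCore K :=
    CfsgLib.le_oddCore (by rwa [Nat.card_congr (Subgroup.subgroupOfEquivOfLe hAK).toEquiv])
  intro a ha
  exact CfsgLib.map_pPrimeCore_le 2 K ⟨⟨a, hAK ha⟩, h1 ha, rfl⟩

namespace Pt0

variable (h : Pt0 H P t)
include h

/-- The only conjugates of `y` under the kernel commuting with it are itself. -/
theorem kernel_isolated {y : X} (hyP : y ∈ (P : Subgroup X)) (hy : IsInv y) (hyt : y ≠ t)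
    (hyR : ∀ r ∈ kerR H P, Commute r y) {k : X} (hk : k ∈ H.normalCore) (hc : Commute y (k * y * k⁻¹)) :
    k * y * k⁻¹ = y := by
  haveI : Fact (Nat.Prime 2) := ⟨Nat.prime_two⟩
  haveI : H.normalCore.Normal := Subgroup.normalCore_normal _
  set K := H.normalCore
  have h1 : k * y * k⁻¹ * y = 1 ∨ k * y * k⁻¹ * y = t := by
    refine h.eq_one_or_t ?_ ?_
    · rw [hc.mul_mul_mul_comm, (hy.conj k).2, hy.2, one_mul]
    · rw [show k * y * k⁻¹ * y = k * (y * k⁻¹ * y) by simp only [mul_assoc]]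
      refine mul_mem hk ?_
      have := (inferInstance : K.Normal).conj_mem _ (inv_mem hk) y
      rwa [hy.inv] at this
  rcases h1 with e | e
  · rw [eq_inv_of_mul_eq_one_left e, hy.inv]
  exfalso
  have hkyt : k * y * k⁻¹ = y * t := by
    rw [eq_mul_inv_of_mul_eq e, hy.inv, ← (h.central y).eq]
  have hyt2 : y * t * t = y := by rw [mul_assoc, h.inv.2, mul_one]
  -- the elements of `K` fixing `y` modulo `t`
  have hconj : ∀ x : X, x * (y * t) * x⁻¹ = x * y * x⁻¹ * t := fun x => by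
    rw [show x * (y * t) * x⁻¹ = x * y * x⁻¹ * (x * t * x⁻¹) by group,
      show x * t * x⁻¹ = t by rw [(h.central x).eq, mul_inv_cancel_right]]
  let M : Subgroup X :=
    { carrier := {x | x ∈ K ∧ (x * y * x⁻¹ = y ∨ x * y * x⁻¹ = y * t)}
      one_mem' := ⟨one_mem K, Or.inl (by group)⟩
      mul_mem' := fun {a b} ha hb => ⟨mul_mem ha.1 hb.1, by
        have e1 : a * b * y * (a * b)⁻¹ = a * (b * y * b⁻¹) * a⁻¹ := by group
        rw [e1]
        rcases hb.2 with e2 | e2 <;> rw [e2]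
        · exact ha.2
        · rw [hconj]
          rcases ha.2 with e3 | e3 <;> rw [e3]
          · exact Or.inr rfl
          · exact Or.inl hyt2⟩
      inv_mem' := fun {a} ha => ⟨inv_mem ha.1, by
        rcases ha.2 with e2 | e2
        · refine Or.inl ?_
          conv_lhs => rw [← e2]
          group
        · refine Or.inr ?_
          calc a⁻¹ * y * a⁻¹⁻¹ = a⁻¹ * (y * t * t) * a⁻¹⁻¹ := by rw [hyt2]
            _ = a⁻¹ * (a * y * a⁻¹) * t * a⁻¹⁻¹ := by rw [e2]; simp only [mul_assoc]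
            _ = y * a⁻¹ * t * a := by group
            _ = y * t := by rw [mul_assoc y, (h.central a⁻¹).eq]; group⟩ }
  let D : Subgroup X := Subgroup.centralizer ({y} : Set X) ⊓ K
  have hDM : D ≤ M := fun x hx => ⟨hx.2, Or.inl (by
    rw [Subgroup.mem_centralizer_singleton_iff.mp hx.1]; group)⟩
  haveI hn : (D.subgroupOf M).Normal := ⟨fun d hd m => by
    obtain ⟨hdy, hdK⟩ := Subgroup.mem_inf.mp hd
    refine Subgroup.mem_inf.mpr ⟨Subgroup.mem_centralizer_singleton_iff.mpr ?_, mul_mem (mul_mem m.2.1 hdK) (inv_mem m.2.1)⟩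
    have hd' : (d : X) * y = y * d := Subgroup.mem_centralizer_singleton_iff.mp hdy
    have hdt : (d : X) * (y * t) = y * t * d := by
      rw [← mul_assoc, hd', mul_assoc, (h.central d).eq, ← mul_assoc]
    show (m : X) * d * (m : X)⁻¹ * y = y * ((m : X) * d * (m : X)⁻¹)
    obtain ⟨z, hz, hmz⟩ : ∃ z, (d : X) * z = z * d ∧ (m : X) * z * (m : X)⁻¹ = y := by
      rcases m.2.2 with e2 | e2
      · exact ⟨y, hd', e2⟩
      · exact ⟨y * t, hdt, by rw [hconj, e2, hyt2]⟩
    rw [← hmz]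
    calc (m : X) * d * (m : X)⁻¹ * (m * z * (m : X)⁻¹) = m * (d * z) * (m : X)⁻¹ := by group
      _ = m * (z * d) * (m : X)⁻¹ := by rw [hz]
      _ = _ := by group⟩
  obtain ⟨Sy, hSy⟩ := PLocal.exists_sylow_inf P H.normalCore
  have hodd : ¬ 2 ∣ (D.subgroupOf M).index := by
    intro hd
    have hRD : kerR H P ≤ D := fun r hr =>
      ⟨Subgroup.mem_centralizer_singleton_iff.mpr (hyR r hr).eq, hr.2⟩
    have h2 : (D.relIndex M) ∣ (kerR H P).relIndex K := by
      rw [← Subgroup.relIndex_mul_relIndex (kerR H P) D K hRD inf_le_right,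
        ← Subgroup.relIndex_mul_relIndex D M K hDM fun x hx => hx.1]
      exact dvd_mul_of_dvd_right (dvd_mul_right _ _) _
    have h3 : ¬ 2 ∣ (kerR H P).relIndex K := by
      have e : (kerR H P).subgroupOf K = (Sy : Subgroup K) := by
        refine Subgroup.map_injective K.subtype_injective ?_
        rw [Subgroup.map_subgroupOf_eq_of_le inf_le_right, hSy]
      rw [Subgroup.relIndex, e]
      exact Sy.not_dvd_index
    exact h3 ((show 2 ∣ D.relIndex M from hd).trans h2)
  have hkM : k ∈ M := ⟨hk, Or.inr hkyt⟩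
  have h4 := Subgroup.pow_index_mem (D.subgroupOf M) ⟨k, hkM⟩
  set n := (D.subgroupOf M).index
  have hpow : ∀ i : ℕ, (Odd i → k ^ i * y * (k ^ i)⁻¹ = y * t) ∧ (Even i → k ^ i * y * (k ^ i)⁻¹ = y) := by
    intro i
    induction i with
    | zero => exact ⟨fun ho => absurd ho (by simp), fun _ => by simp⟩
    | succ i ih =>
      have e1 : k ^ (i + 1) * y * (k ^ (i + 1))⁻¹ = k * (k ^ i * y * (k ^ i)⁻¹) * k⁻¹ := by
        rw [pow_succ']; group
      rcases Nat.even_or_odd i with hi | hi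
      · refine ⟨fun _ => by rw [e1, ih.2 hi, hkyt], fun he => ?_⟩
        exact absurd hi (Nat.even_add_one.mp he)
      · refine ⟨fun ho => ?_, fun _ => by rw [e1, ih.1 hi, hconj, hkyt, hyt2]⟩
        exact absurd hi (fun hi' => (Nat.not_even_iff_odd.mpr ho) hi'.add_one)
  have h5 := (hpow n).1 (Nat.odd_iff.mpr (Nat.two_dvd_ne_zero.mp hodd))
  have h6 : k ^ n * y = y * k ^ n := Subgroup.mem_centralizer_singleton_iff.mp (Subgroup.mem_inf.mp h4).1
  rw [h6, mul_inv_cancel_right] at h5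
  exact h.inv.1 (mul_eq_left.mp h5.symm)

/-- The kernel is its part in the odd core times the centraliser of `y`. -/
theorem kernel_factor {y : X} (hyP : y ∈ (P : Subgroup X)) (hy : IsInv y) (hyt : y ≠ t)
    (hyR : ∀ r ∈ kerR H P, Commute r y) {k : X} (hk : k ∈ H.normalCore) :
    ∃ o, o ∈ oddCore X ∧ o ∈ H.normalCore ∧ Commute (k * o) y := by
  haveI : H.normalCore.Normal := Subgroup.normalCore_normal _
  set K := H.normalCore
  set Y := K ⊔ Subgroup.zpowers y with hY
  have hyY : y ∈ Y := Subgroup.mem_sup_right (Subgroup.mem_zpowers y)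
  have hsplit : ∀ g ∈ Y, ∃ a ∈ K, g = a ∨ g = a * y := by
    intro g hg
    obtain ⟨a, ha, b, hb, rfl⟩ := Subgroup.mem_sup_of_normal_left.mp hg
    obtain ⟨i, rfl⟩ := Subgroup.mem_zpowers_iff.mp hb
    refine ⟨a, ha, ?_⟩
    rcases Int.even_or_odd i with ⟨j, rfl⟩ | ⟨j, rfl⟩
    · exact Or.inl (by rw [← two_mul, zpow_mul, zpow_two, hy.2, one_zpow, mul_one])
    · exact Or.inr (by rw [zpow_add, zpow_mul, zpow_two, hy.2, one_zpow, one_mul, zpow_one])
  have hiso : ∀ g : Y, Commute (⟨y, hyY⟩ : Y) (g * ⟨y, hyY⟩ * g⁻¹) → g * ⟨y, hyY⟩ * g⁻¹ = ⟨y, hyY⟩ := by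
    intro g hg
    obtain ⟨a, ha, e⟩ := hsplit g g.2
    have hconj : (g : X) * y * (g : X)⁻¹ = a * y * a⁻¹ := by
      rcases e with e | e <;> rw [e]
      rw [mul_inv_rev, hy.inv]
      simp only [mul_assoc]
      rw [← mul_assoc y y, hy.2, one_mul]
    refine Subtype.ext ?_
    show (g : X) * y * (g : X)⁻¹ = y
    rw [hconj]
    refine h.kernel_isolated hyP hy hyt hyR ha ?_
    have h1 : y * ((g : X) * y * (g : X)⁻¹) = (g : X) * y * (g : X)⁻¹ * y := congrArg Subtype.val hg.eq
    rwa [hconj] at h1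
  have hy2 : orderOf (⟨y, hyY⟩ : Y) = 2 := by
    rw [Subgroup.orderOf_mk]; exact Bender.Assembly.orderOf_two hy
  have hkY : k⁻¹ ∈ Y := Subgroup.mem_sup_left (inv_mem hk)
  have hd := ZStar.inZStar hy2 hiso ⟨k⁻¹, hkY⟩
  change _ ∈ oddCore Y at hd
  set d := k⁻¹ * y * k * y⁻¹ with hddef
  -- an odd normal subgroup of `Y` meets `K` in the odd core of `X`
  set A := ((oddCore Y).map Y.subtype) ⊓ K
  have hAodd : Odd (Nat.card A) := by
    refine Odd.of_dvd_nat ?_ (Subgroup.card_dvd_of_le (inf_le_left : A ≤ _))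
    rw [Subgroup.card_map_of_injective Y.subtype_injective]
    exact Nat.coprime_two_left.mp (CfsgLib.card_pPrimeCore_coprime 2).symm
  have hAn : K ≤ Subgroup.normalizer (A : Set X) := fun x hx => Comp.mem_normalizer_of_maps fun a ha => by
    obtain ⟨⟨a', ha', rfl⟩, haK⟩ := ha
    exact ⟨⟨_, (inferInstance : (oddCore Y).Normal).conj_mem a' ha' ⟨x, Subgroup.mem_sup_left hx⟩, rfl⟩,
      K.mul_mem (K.mul_mem hx haK) (K.inv_mem hx)⟩
  have hdA : d ∈ A := by
    refine ⟨⟨_, hd, by simp [hddef]⟩, ?_⟩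
    rw [hddef, mul_assoc, mul_assoc]
    refine K.mul_mem (K.inv_mem hk) ?_
    rw [← mul_assoc]
    exact Subgroup.Normal.conj_mem inferInstance k hk y
  obtain ⟨m, hm⟩ := CfsgLib.Involutions.exists_sqrt (hAodd.of_dvd_nat (Subgroup.orderOf_dvd_natCard A hdA))
  have hinv : y * d * y⁻¹ = d⁻¹ := by
    rw [hddef]
    simp only [mul_inv_rev, inv_inv, hy.inv, mul_assoc, hy.2, mul_one]
  have hpow : y * d ^ m * y⁻¹ = (d ^ m)⁻¹ := by rw [← conj_pow, hinv, inv_pow]
  have hdm : d ^ m ∈ A := pow_mem hdA m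
  refine ⟨d ^ m, le_core_of_normalized hAodd inf_le_right hAn hdm, hdm.2, ?_⟩
  have h1 : d ^ m * y * (d ^ m)⁻¹ = k⁻¹ * y * k := by
    calc d ^ m * y * (d ^ m)⁻¹ = d ^ m * (y * (d ^ m)⁻¹ * y⁻¹) * y := by group
      _ = d ^ m * (y * d ^ m * y⁻¹)⁻¹ * y := by group
      _ = d * y := by rw [hpow, inv_inv, hm]
      _ = k⁻¹ * y * k := by rw [hddef, inv_mul_cancel_right]
  show k * d ^ m * y = y * (k * d ^ m)
  calc k * d ^ m * y = k * (d ^ m * y * (d ^ m)⁻¹) * d ^ m := by group
    _ = y * (k * d ^ m) := by rw [h1]; group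

/-- An odd subgroup of the kernel normalised by the centraliser of `y` lies in the odd core. -/
theorem le_core_of_kernel {y : X} (hyP : y ∈ (P : Subgroup X)) (hy : IsInv y) (hyt : y ≠ t)
    (hyR : ∀ r ∈ kerR H P, Commute r y) {A : Subgroup X} (hA : Odd (Nat.card A)) (hAK : A ≤ H.normalCore)
    (hn : Subgroup.centralizer ({y} : Set X) ≤ Subgroup.normalizer (A : Set X)) : A ≤ oddCore X := by
  haveI : H.normalCore.Normal := Subgroup.normalCore_normal _
  set K := H.normalCore
  set O := oddCore X ⊓ K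
  haveI : (oddCore X).Normal := inferInstanceAs (pPrimeCore 2 X).Normal
  haveI : O.Normal := Subgroup.normal_inf_normal _ _
  have hOodd : Odd (Nat.card O) := Odd.of_dvd_nat (Nat.coprime_two_left.mp (CfsgLib.card_pPrimeCore_coprime 2).symm)
    (Subgroup.card_dvd_of_le (inf_le_left : O ≤ oddCore X))
  have hodd : Odd (Nat.card ↥(A ⊔ O)) := by
    refine Odd.of_dvd_nat (hA.mul hOodd) ?_
    exact TIHall.card_sup_dvd_of_le_normalizer (X := A) (Y := O) fun x _ => by
      rw [Subgroup.normalizer_eq_top]; exact Subgroup.mem_top x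
  refine le_sup_left.trans (le_core_of_normalized (K := K) hodd (sup_le hAK inf_le_right) fun k hk => ?_)
  obtain ⟨o, ho, hoK, hoc⟩ := h.kernel_factor hyP hy hyt hyR hk
  have hoO : o ∈ O := ⟨ho, hoK⟩
  have h1 : k * o ∈ Subgroup.normalizer (A : Set X) := hn (Subgroup.mem_centralizer_singleton_iff.mpr hoc.eq)
  have h2 : k * o ∈ Subgroup.normalizer ((A ⊔ O : Subgroup X) : Set X) :=
    Subgroup.normalizer_inf_normalizer_le_normalizer_sup _ _
      ⟨h1, by rw [Subgroup.normalizer_eq_top]; exact Subgroup.mem_top _⟩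
  have h3 : o ∈ Subgroup.normalizer ((A ⊔ O : Subgroup X) : Set X) :=
    Subgroup.le_normalizer (Subgroup.mem_sup_right hoO)
  simpa using mul_mem h2 (inv_mem h3)

end Pt0

end CfsgLib.CoreKill.Local
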