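import Cfsg.Agent.Lib.CoreKill.Local.Frame
import Cfsg.Agent.Lib.ConstrainedCore.Aut
import Cfsg.Agent.Lib.PLocal.StableNormal
import Cfsg.Agent.Lib.RootBlocks.LocalStarStar
import Cfsg.Agent.Lib.Bender.ExtRankOne

/-!
The centraliser of the kernel's Sylow subgroup `R` covers the four group of the base point: every element of `P` over
it lies in `R C`, and `C_H(R) ∩ N(C)` is transitive on it.

Blueprint: `blueprint/bender/CoreKill.md`, 2.
-/

set_option autoImplicit false
set_option linter.unusedSectionVars false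
set_option linter.style.haveILetI false

namespace CfsgLib.CoreKill.Local

open Cfsg MulAction
open CfsgLib.Bender.TwoClosed (IsInv)
open CfsgLib.Bender.Assembly (orderOf_two isInv_of_orderOf fix_iff)
open CfsgLib.Bender.Q (permGrp permImg permImg_eq_one)
open scoped Pointwise

universe u

variable {X : Type u} [Group X] [Finite X] {H : Subgroup X} {P : Sylow 2 X} {t : X}

/-- The Sylow subgroup of the kernel inside `P`. -/
abbrev kerR (H : Subgroup X) (P : Sylow 2 X) : Subgroup X := (P : Subgroup X) ⊓ H.normalCore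

/-- The group of the involutions of the one-fix group at the base point. -/
def baseGrp (L : Subgroup (permGrp X (X ⧸ H))) : Subgroup (permGrp X (X ⧸ H)) :=
  (Subgroup.closure (invBase L)).map L.subtype

/-- The elements of `P` over the base group centralising `R`. -/
def covC (P : Sylow 2 X) (L : Subgroup (permGrp X (X ⧸ H))) : Subgroup X :=
  (P : Subgroup X) ⊓ Subgroup.centralizer (kerR H P : Set X) ⊓ (baseGrp L).comap (img H)

theorem img_mem_core {x : X} : img H x = 1 ↔ x ∈ H.normalCore :=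
  permImg_eq_one.trans ⟨fun h => Bender.Q.mem_normalCore_of_fix h, fun h c => Bender.Q.fix_normalCore h c⟩

theorem mem_covC {L : Subgroup (permGrp X (X ⧸ H))} {c : X} :
    c ∈ covC P L ↔ c ∈ (P : Subgroup X) ∧ (∀ r ∈ kerR H P, Commute c r) ∧ img H c ∈ baseGrp L := by
  simp only [covC, Subgroup.mem_inf, Subgroup.mem_comap, Subgroup.mem_centralizer_iff, and_assoc]
  exact ⟨fun ⟨h1, h2, h3⟩ => ⟨h1, fun r hr => (h2 r hr).symm, h3⟩,
    fun ⟨h1, h2, h3⟩ => ⟨h1, fun r hr => (h2 r hr).eq.symm, h3⟩⟩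

namespace Pt0

variable (h : Pt0 H P t)
include h

/-- The only involution of the kernel is `t`. -/
theorem kernel_inv {v : X} (hv : IsInv v) (hvK : v ∈ H.normalCore) : v = t :=
  h.eq_t hv fun c => Bender.Q.fix_normalCore hvK c

theorem t_mem_P : t ∈ (P : Subgroup X) := by
  obtain ⟨g, hg⟩ := h.exists_conj h.inv
  rwa [(h.central g).eq, mul_inv_cancel_right] at hg

theorem t_mem_R : t ∈ kerR H P := ⟨h.t_mem_P, img_mem_core.mp h.img_t⟩

/-- An odd element normalising `R` has its cube centralising it. -/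
theorem cube_cent {x : X} (hx : x ∈ Subgroup.normalizer (kerR H P : Set X)) (hodd : Odd (orderOf x)) :
    x ^ 3 ∈ Subgroup.centralizer (kerR H P : Set X) := by
  haveI : Fact (Nat.Prime 2) := ⟨Nat.prime_two⟩
  set R := kerR H P with hR
  have hRp : IsPGroup 2 R := P.2.to_le inf_le_left
  have hrank : PRankLE 2 1 R := by
    intro A _ hA2
    classical
    let f : A → Bool := fun a => decide ((a : R) = 1)
    refine (Nat.card_le_card_of_injective f ?_).trans (le_of_eq (by rw [Nat.card_eq_fintype_card, Fintype.card_bool, pow_one]))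
    intro a b e
    have e' := decide_eq_decide.mp e
    have key : ∀ c : A, (c : R) ≠ 1 → ((c : R) : X) = t := fun c hc =>
      h.kernel_inv ⟨fun e1 => hc (Subtype.ext e1), by
        have := congrArg (fun z : R => (z : X)) (hA2 _ c.2)
        simpa [pow_two] using this⟩ (c : R).2.2
    by_cases ha : (a : R) = 1
    · exact Subtype.ext (ha.trans (e'.mp ha).symm)
    · exact Subtype.ext (Subtype.ext ((key a ha).trans (key b fun hb => ha (e'.mpr hb)).symm))
  let φ : Subgroup.normalizer (R : Set X) →* MulAut R := Subgroup.normalizerMonoidHom R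
  have hdvd : orderOf (φ ⟨x, hx⟩) ∣ 3 := by
    have h1 : orderOf (φ ⟨x, hx⟩) ∣ orderOf x :=
      (orderOf_map_dvd φ _).trans (Subgroup.orderOf_mk x hx).dvd
    have h2 : orderOf (φ ⟨x, hx⟩) ∣ Nat.card (MulAut R) := orderOf_dvd_natCard _
    have hcop : (orderOf (φ ⟨x, hx⟩)).Coprime 2 := Nat.coprime_two_right.mpr (hodd.of_dvd_nat h1)
    rcases ConstrainedCore.rank_one_aut hRp hrank with hA | he
    · obtain ⟨k, hk⟩ := hA.exists_card_eq
      rw [hk] at h2
      rw [Nat.eq_one_of_dvd_coprimes (hcop.pow_right k) dvd_rfl h2]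
      exact one_dvd 3
    · obtain ⟨e⟩ := he
      have h3 : orderOf (φ ⟨x, hx⟩) ∣ 24 := h2.trans (by
        rw [Nat.card_congr (MulAut.congr e).toEquiv]
        exact LocalFusion.q8_card_aut_dvd)
      exact (hcop.pow_right 3).dvd_of_dvd_mul_left (show orderOf (φ ⟨x, hx⟩) ∣ 2 ^ 3 * 3 by norm_num; exact h3)
  have hone : φ (⟨x, hx⟩ ^ 3) = 1 := by rw [map_pow]; exact orderOf_dvd_iff_pow_eq_one.mp hdvd
  refine Subgroup.mem_centralizer_iff.mpr fun r hr => ?_
  have h4 : x ^ 3 * r * (x ^ 3)⁻¹ = r :=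
    congrArg (fun f : MulAut R => ((f ⟨r, hr⟩ : R) : X)) hone
  exact (mul_inv_eq_iff_eq_mul.mp h4).symm

/-- A 2-subgroup of the image normal in the stabiliser of the base point lifts into `P`. -/
theorem exists_lift {T : Subgroup (permGrp X (X ⧸ H))} (hT : IsPGroup 2 T)
    (hTa : ∀ z ∈ T, z • base H = base H) (hTn : ∀ x ∈ H, img H x ∈ Subgroup.normalizer (T : Set (permGrp X (X ⧸ H))))
    {z : permGrp X (X ⧸ H)} (hz : z ∈ T) : ∃ s ∈ (P : Subgroup X), img H s = z := by
  haveI : Fact (Nat.Prime 2) := ⟨Nat.prime_two⟩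
  let K : Subgroup X := T.comap (img H)
  let f : K →* T := ((img H).comp K.subtype).codRestrict T fun k => k.2
  have hf : Function.Surjective f := fun w => by
    obtain ⟨x, hx⟩ := img_surj (w : permGrp X (X ⧸ H))
    exact ⟨⟨x, show img H x ∈ T by rw [hx]; exact w.2⟩, Subtype.ext hx⟩
  let S : Sylow 2 K := default
  obtain ⟨m, hm, hmS⟩ := Bender.Q.exists_conj_sylow h.P_le (S.isPGroup'.map K.subtype) (by
    rintro _ ⟨s, -, rfl⟩
    exact fix_base.mp (hTa _ s.2))
  have hz' : (img H m)⁻¹ * z * img H m ∈ T := by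
    have := (Subgroup.mem_normalizer_iff.mp (inv_mem (hTn m hm)) z).mp hz
    rwa [inv_inv] at this
  have h1 := (S.mapSurjective hf).is_maximal' (IsPGroup.to_le hT le_rfl |>.to_subgroup ⊤) le_top
  obtain ⟨s, hs, hse⟩ : (⟨_, hz'⟩ : T) ∈ ((S.mapSurjective hf : Sylow 2 T) : Subgroup T) := h1 ▸ Subgroup.mem_top _
  have hse' : img H (s : X) = (img H m)⁻¹ * z * img H m := congrArg Subtype.val hse
  refine ⟨m * s * m⁻¹, hmS _ ⟨s, hs, rfl⟩, ?_⟩
  rw [map_mul, map_mul, map_inv, hse']
  group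

end Pt0

namespace Frame

variable {L : Subgroup (permGrp X (X ⧸ H))} (F : Frame H P t L)
include F

theorem mem_baseGrp {z : permGrp X (X ⧸ H)} :
    z ∈ baseGrp L ↔ z = 1 ∨ ∃ e ∈ invBase L, (e : permGrp X (X ⧸ H)) = z := by
  haveI := F.faithful
  obtain ⟨τ, Q, hS, -⟩ := F.setup
  constructor
  · rintro ⟨e, he, rfl⟩
    have h1 : e = 1 ∨ e ∈ invBase L := by
      induction he using Subgroup.closure_induction with
      | mem x hx => exact Or.inr hx
      | one => exact Or.inl rfl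
      | mul x y _ _ ihx ihy =>
        rcases ihx with rfl | hx
        · rw [one_mul]; exact ihy
        rcases ihy with rfl | hy
        · rw [mul_one]; exact Or.inr hx
        by_cases hxy : x * y = 1
        · exact Or.inl hxy
        refine Or.inr ⟨mul_mem hx.1 hy.1, hxy, ?_⟩
        rw [(show Commute x y from SuzukiRankOne.invol_comm hS F.oneFix.four hx hy).symm.mul_mul_mul_comm, hx.2.2,
          hy.2.2, one_mul]
      | inv x _ ih =>
        rcases ih with rfl | hx
        · exact Or.inl inv_one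
        · exact Or.inr ((inv_eq_of_mul_eq_one_right hx.2.2).symm ▸ hx)
    rcases h1 with rfl | h1
    · exact Or.inl rfl
    · exact Or.inr ⟨e, h1, rfl⟩
  · rintro (rfl | ⟨e, he, rfl⟩)
    · exact one_mem _
    · exact ⟨e, Subgroup.subset_closure he, rfl⟩

theorem baseGrp_two : IsPGroup 2 (baseGrp L) := fun z => ⟨1, Subtype.ext (by
  rcases F.mem_baseGrp.mp z.2 with e | ⟨e, he, e'⟩
  · simp [e]
  · rw [SubmonoidClass.coe_pow, pow_one, pow_two, ← e']
    exact congrArg Subtype.val he.2.2)⟩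

theorem baseGrp_fix {z : permGrp X (X ⧸ H)} (hz : z ∈ baseGrp L) : z • base H = base H := by
  rcases F.mem_baseGrp.mp hz with rfl | ⟨e, he, rfl⟩
  · exact one_smul _ _
  · exact mem_stabilizer_iff.mp he.1

theorem baseGrp_comm {z w : permGrp X (X ⧸ H)} (hz : z ∈ baseGrp L) (hw : w ∈ baseGrp L) : Commute z w := by
  haveI := F.faithful
  obtain ⟨τ, Q, hS, -⟩ := F.setup
  rcases F.mem_baseGrp.mp hz with rfl | ⟨e, he, rfl⟩
  · exact Commute.one_left w
  rcases F.mem_baseGrp.mp hw with rfl | ⟨f, hf, rfl⟩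
  · exact Commute.one_right _
  exact congrArg Subtype.val (SuzukiRankOne.invol_comm hS F.oneFix.four he hf)

theorem baseGrp_norm {g : permGrp X (X ⧸ H)} (hg : g • base H = base H) :
    g ∈ Subgroup.normalizer (baseGrp L : Set (permGrp X (X ⧸ H))) := by
  refine Comp.mem_normalizer_of_maps fun z hz => ?_
  rcases F.mem_baseGrp.mp hz with rfl | ⟨e, he, rfl⟩
  · rw [mul_one, mul_inv_cancel]; exact one_mem _
  refine F.mem_baseGrp.mpr (Or.inr ⟨⟨g * (e : permGrp X (X ⧸ H)) * g⁻¹, F.normal.conj_mem _ e.2 g⟩, ⟨?_, ?_, ?_⟩, rfl⟩)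
  · refine mem_stabilizer_iff.mpr ?_
    show (g * (e : permGrp X (X ⧸ H)) * g⁻¹) • base H = base H
    exact Bender.TwoClosed.smul_conj (c := base H) (g := g) (mem_stabilizer_iff.mp he.1) |> fun h => by rwa [hg] at h
  · intro e1
    exact he.2.1 (Subtype.ext (conj_eq_one_iff.mp (congrArg Subtype.val e1)))
  · refine Subtype.ext ?_
    show g * (e : permGrp X (X ⧸ H)) * g⁻¹ * (g * (e : permGrp X (X ⧸ H)) * g⁻¹) = 1
    rw [conj_mul, show (e : permGrp X (X ⧸ H)) * e = 1 from congrArg Subtype.val he.2.2, mul_one, mul_inv_cancel]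

/-- Members of `P` lie over the base group. -/
theorem mem_over {u : X} (hu : IsInv u) (huH : u ∈ H) : img H u ∈ baseGrp L := by
  by_cases hut : u = t
  · rw [hut, F.pt.img_t]; exact one_mem _
  · exact F.mem_baseGrp.mpr (Or.inr ⟨_, F.mem_base hu hut huH, rfl⟩)

/-- Every element of `P` over the base group lifts. -/
theorem exists_over {z : permGrp X (X ⧸ H)} (hz : z ∈ baseGrp L) : ∃ s ∈ (P : Subgroup X), img H s = z :=
  F.pt.exists_lift F.baseGrp_two (fun _ => F.baseGrp_fix) (fun _ hx => F.baseGrp_norm (fix_base.mpr hx)) hz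

theorem frattini : Subgroup.normalizer (kerR H P : Set X) ⊔ H.normalCore = ⊤ := by
  haveI : Fact (Nat.Prime 2) := ⟨Nat.prime_two⟩
  haveI : H.normalCore.Normal := Subgroup.normalCore_normal _
  exact RootBlocks.frattini_inf P

/-- The centraliser of `R` covers the one-fix group's involutions. -/
theorem cover {e : ↥L} (he : e ≠ 1) (he2 : e * e = 1) :
    ∃ x ∈ Subgroup.centralizer (kerR H P : Set X), img H x = (e : permGrp X (X ⧸ H)) := by
  haveI := F.faithful
  haveI : H.normalCore.Normal := Subgroup.normalCore_normal _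
  obtain ⟨τ, Q, hS, -⟩ := F.setup
  haveI := F.oneFix.trans
  set CR := Subgroup.centralizer (kerR H P : Set X)
  set Chat := CR.map (img H) with hChat
  have hlift : ∀ g : permGrp X (X ⧸ H), ∃ x ∈ Subgroup.normalizer (kerR H P : Set X), img H x = g := by
    intro g
    obtain ⟨x, rfl⟩ := img_surj g
    obtain ⟨n, hn, k, hk, rfl⟩ := Subgroup.mem_sup_of_normal_right.mp
      (show x ∈ Subgroup.normalizer (kerR H P : Set X) ⊔ H.normalCore by rw [F.frattini]; exact Subgroup.mem_top x)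
    exact ⟨n, hn, by rw [map_mul, img_mem_core.mpr hk, mul_one]⟩
  haveI : Chat.Normal := ⟨by
    rintro _ ⟨c, hc, rfl⟩ g
    obtain ⟨n, hn, rfl⟩ := hlift g
    refine ⟨n * c * n⁻¹, ?_, by rw [map_mul, map_mul, map_inv]⟩
    refine Subgroup.mem_centralizer_iff.mpr fun r hr => ?_
    have h1 := Subgroup.mem_centralizer_iff.mp hc (n⁻¹ * r * n) ((Subgroup.mem_normalizer_iff''.mp hn r).mp hr)
    calc r * (n * c * n⁻¹) = n * ((n⁻¹ * r * n) * c) * n⁻¹ := by group
      _ = n * (c * (n⁻¹ * r * n)) * n⁻¹ := by rw [h1]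
      _ = n * c * n⁻¹ * r := by group⟩
  haveI : (Chat.subgroupOf L).Normal := Subgroup.Normal.subgroupOf inferInstance L
  -- two involutions at different points whose product has cube other than one
  obtain ⟨i, hi, hia⟩ := F.oneFix.exists_inv_at (base H)
  obtain ⟨b, hb⟩ := F.pt.exists_ne_base
  obtain ⟨j, hj, hjb, hij⟩ : ∃ j : ↥L, IsInv j ∧ j • b = b ∧ (i * j) ^ 3 ≠ 1 := by
    by_contra hcon
    push Not at hcon
    obtain ⟨v, w, hv, hvb, hw, hwb, hne⟩ := F.oneFix.exists_two_at b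
    have key : ∀ x : ↥L, IsInv x → x • b = b → x • base H = i • b := by
      intro x hx hxb
      have h3 := hcon x hx hxb
      have e : i * x * i = x * i * x := by
        rw [pow_succ, pow_two] at h3
        have h4 := eq_inv_of_mul_eq_one_left h3
        rw [mul_inv_rev, hx.inv, hi.inv] at h4
        calc i * x * i = i * x * (i * x) * x := by simp only [mul_assoc, hx.2, mul_one]
          _ = x * i * x := by rw [h4]
      -- `x i x` fixes the image of `b` under `i`
      refine F.oneFix.eq_of_fix (x := x * i * x) (by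
        have := hi.conj x
        rwa [hx.inv] at this) ?_ ?_
      · show (x * i * x) • x • base H = x • base H
        rw [← mul_smul, mul_assoc _ x x, hx.2, mul_one, mul_smul, hia]
      · rw [← e]
        show (i * x * i) • i • b = i • b
        rw [← mul_smul, mul_assoc _ i i, hi.2, mul_one, mul_smul, hxb]
    have h1 := (key v hv hvb).trans (key w hw hwb).symm
    have hwv : IsInv (w * v) := by
      refine ⟨fun e => hne ?_, ?_⟩
      · rw [← inv_eq_of_mul_eq_one_right hw.2]; exact (eq_inv_of_mul_eq_one_right e)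
      · have hc : Commute w v := by
          haveI := F.oneFix.trans
          obtain ⟨g, hg⟩ := exists_smul_eq ↥L b (base H)
          have hI : ∀ {z : ↥L}, IsInv z → z • b = b → g * z * g⁻¹ ∈ invBase L := fun {z} hz hzb =>
            ⟨mem_stabilizer_iff.mpr (hg ▸ Bender.TwoClosed.smul_conj hzb), (hz.conj g).1, (hz.conj g).2⟩
          have h5 := SuzukiRankOne.invol_comm hS F.oneFix.four (hI hw hwb) (hI hv hvb)
          rw [conj_mul, conj_mul] at h5
          exact mul_left_cancel (mul_right_cancel h5)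
        rw [hc.symm.mul_mul_mul_comm, hw.2, hv.2, one_mul]
    exact hb (F.oneFix.eq_of_fix hwv (show (w * v) • b = b by rw [mul_smul, hvb, hwb])
      (show (w * v) • base H = base H by rw [mul_smul, h1, hw.smul_twice]))
  have hne : Chat.subgroupOf L ≠ ⊥ := by
    intro hbot
    obtain ⟨n, hn, hne'⟩ := hlift ((i * j : ↥L) : permGrp X (X ⧸ H))
    obtain ⟨k, hk⟩ := Nat.exists_eq_two_pow_mul_odd (orderOf_pos n).ne' |> fun ⟨k, m, hm, e⟩ =>
      (⟨k, m, hm, e⟩ : ∃ k m, Odd m ∧ orderOf n = 2 ^ k * m)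
    obtain ⟨m, hm, hkm⟩ := hk
    have hodd : Odd (orderOf (n ^ 2 ^ k)) := by
      rw [orderOf_pow' n (by positivity), hkm, Nat.gcd_mul_right_left, Nat.mul_div_cancel_left _ (by positivity)]
      exact hm
    have h1 := F.pt.cube_cent (pow_mem hn _) hodd
    have h2 : ((i * j) ^ (2 ^ k)) ^ 3 ∈ Chat.subgroupOf L := ⟨_, h1, by
      rw [map_pow, map_pow, hne']; rfl⟩
    rw [hbot, Subgroup.mem_bot, ← pow_mul, mul_comm, pow_mul] at h2
    have hoi : Odd (orderOf ((i * j) ^ 3)) :=
      (F.oneFix.odd_mul hi hia hj hjb hb.symm).of_dvd_nat (orderOf_pow_dvd 3)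
    refine hij (orderOf_eq_one_iff.mp (Nat.eq_one_of_dvd_coprimes
      ((Nat.coprime_two_right.mpr hoi).pow_right k) dvd_rfl (orderOf_dvd_of_pow_eq_one h2)))
  exact Bender.Ext.normal_invol hS F.oneFix.four hne he he2

theorem kerR_norm : (P : Subgroup X) ≤ Subgroup.normalizer (kerR H P : Set X) := fun p hp =>
  Comp.mem_normalizer_of_maps fun r hr => ⟨(P : Subgroup X).mul_mem ((P : Subgroup X).mul_mem hp hr.1) ((P : Subgroup X).inv_mem hp),
    (Subgroup.normalCore_normal H).conj_mem r hr.2 p⟩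

/-- Every element of `P` over the base group is a product of an element of `R` and one of `C`. -/
theorem decomp {s : X} (hs : s ∈ (P : Subgroup X)) (hsb : img H s ∈ baseGrp L) :
    ∃ r ∈ kerR H P, ∃ c ∈ covC P L, s = r * c := by
  haveI : Fact (Nat.Prime 2) := ⟨Nat.prime_two⟩
  haveI : H.normalCore.Normal := Subgroup.normalCore_normal _
  set R := kerR H P
  set CR := Subgroup.centralizer (R : Set X)
  obtain ⟨x, hx, hxs⟩ : ∃ x ∈ CR, img H x = img H s := by
    rcases F.mem_baseGrp.mp hsb with e | ⟨e, he, e'⟩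
    · exact ⟨1, one_mem _, by rw [map_one, e]⟩
    · exact e' ▸ F.cover he.2.1 he.2.2
  suffices hsJ : s ∈ R ⊔ CR by
    have hset : (↑(R ⊔ CR) : Set X) = (R : Set X) * (CR : Set X) :=
      Subgroup.coe_mul_of_left_le_normalizer_right _ _ (fun r hr => Comp.mem_normalizer_of_maps fun c hc =>
        Subgroup.mem_centralizer_iff.mpr fun r' hr' => by
          have h1 := Subgroup.mem_centralizer_iff.mp hc
          rw [h1 r hr, mul_inv_cancel_right, h1 r' hr'])
    obtain ⟨r, hr, c, hc, e⟩ := Set.mem_mul.mp (hset ▸ hsJ : s ∈ (R : Set X) * (CR : Set X))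
    refine ⟨r, hr, c, mem_covC.mpr ⟨?_, fun r' hr' => (Subgroup.mem_centralizer_iff.mp hc r' hr').symm, ?_⟩, e.symm⟩
    · rw [show c = r⁻¹ * s by rw [← e, inv_mul_cancel_left]]
      exact mul_mem (inv_mem hr.1) hs
    · rw [← e, map_mul, img_mem_core.mpr hr.2, one_mul] at hsb
      exact hsb
  -- modulo `R C(R)` the element `s` is the image of an element of the kernel, of odd order
  set N := Subgroup.normalizer (R : Set X)
  set J := (R ⊔ CR).subgroupOf N
  have hJn : J.Normal := by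
    refine (Subgroup.normal_subgroupOf_iff_le_normalizer (sup_le Subgroup.le_normalizer
      (fun c hc => Comp.mem_normalizer_of_maps fun r hr => by
        rw [← Subgroup.mem_centralizer_iff.mp hc r hr, mul_inv_cancel_right]; exact hr))).mpr ?_
    intro n hn
    refine Comp.mem_normalizer_of_maps fun z hz => ?_
    have hle : R ⊔ CR ≤ (R ⊔ CR).comap (MulAut.conj n).toMonoidHom := sup_le
      (fun r hr => Subgroup.mem_sup_left ((Subgroup.mem_normalizer_iff.mp hn r).mp hr))
      (fun c hc => Subgroup.mem_sup_right (Subgroup.mem_centralizer_iff.mpr fun r hr => by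
        have h1 := Subgroup.mem_centralizer_iff.mp hc (n⁻¹ * r * n) ((Subgroup.mem_normalizer_iff''.mp hn r).mp hr)
        show r * (n * c * n⁻¹) = n * c * n⁻¹ * r
        calc r * (n * c * n⁻¹) = n * ((n⁻¹ * r * n) * c) * n⁻¹ := by group
          _ = n * (c * (n⁻¹ * r * n)) * n⁻¹ := by rw [h1]
          _ = n * c * n⁻¹ * r := by group))
    exact hle hz
  have hxN : x ∈ N := Comp.mem_normalizer_of_maps fun r hr => by
    rw [← Subgroup.mem_centralizer_iff.mp hx r hr, mul_inv_cancel_right]; exact hr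
  have hsN : s ∈ N := F.kerR_norm hs
  set k : N := ⟨s, hsN⟩ * ⟨x, hxN⟩⁻¹ with hk
  have hkK : (k : X) ∈ H.normalCore := img_mem_core.mp (by
    show img H (s * x⁻¹) = 1
    rw [map_mul, map_inv, hxs, mul_inv_cancel])
  -- the odd part of the order of `k` modulo `R`
  obtain ⟨Sy, hSy⟩ := PLocal.exists_sylow_inf P H.normalCore
  set KN := (Subgroup.normalizer (R : Set X) ⊓ H.normalCore)
  obtain ⟨n, hn, hnJ⟩ : ∃ n : ℕ, Odd n ∧ (k : X) ^ n ∈ R := by
    refine ⟨((R.subgroupOf KN)).index, ?_, ?_⟩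
    · rw [← Nat.not_even_iff_odd, even_iff_two_dvd]
      intro hd
      have h2 : R.relIndex KN ∣ R.relIndex H.normalCore :=
        ⟨_, (Subgroup.relIndex_mul_relIndex R KN H.normalCore (le_inf Subgroup.le_normalizer inf_le_right)
          inf_le_right).symm⟩
      have h3 : ¬ 2 ∣ R.relIndex H.normalCore := by
        have e : R.subgroupOf H.normalCore = (Sy : Subgroup H.normalCore) := by
          refine Subgroup.map_injective H.normalCore.subtype_injective ?_
          rw [Subgroup.map_subgroupOf_eq_of_le inf_le_right, hSy]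
        rw [Subgroup.relIndex, e]
        exact Sy.not_dvd_index
      exact h3 (hd.trans h2)
    · haveI : (R.subgroupOf KN).Normal :=
        (Subgroup.normal_subgroupOf_iff_le_normalizer (le_inf Subgroup.le_normalizer inf_le_right)).mpr inf_le_left
      have h1 := Subgroup.pow_index_mem (R.subgroupOf KN) (⟨(k : X), Subgroup.mem_inf.mpr ⟨k.2, hkK⟩⟩ : KN)
      exact h1
  haveI := hJn
  obtain ⟨i, hi⟩ := P.2 ⟨s, hs⟩
  have hi' : s ^ 2 ^ i = 1 := congrArg Subtype.val hi
  let π := QuotientGroup.mk' J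
  have hπ : π ⟨s, hsN⟩ = π k := by
    refine (QuotientGroup.mk'_eq_mk' J).mpr ⟨(⟨s, hsN⟩ : N)⁻¹ * k, ?_, mul_inv_cancel_left _ _⟩
    show ((⟨s, hsN⟩ : N)⁻¹ * k : N).1 ∈ R ⊔ CR
    simp only [hk, ← mul_assoc, inv_mul_cancel, one_mul, Subgroup.coe_inv]
    exact Subgroup.mem_sup_right (inv_mem hx)
  have h1 : π ⟨s, hsN⟩ ^ n = 1 := by
    rw [hπ, ← map_pow]
    exact (QuotientGroup.eq_one_iff _).mpr (Subgroup.mem_sup_left hnJ)
  have h2 : π ⟨s, hsN⟩ ^ 2 ^ i = 1 := by
    rw [← map_pow, show (⟨s, hsN⟩ : N) ^ 2 ^ i = 1 from Subtype.ext hi', map_one]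
  have h3 := orderOf_eq_one_iff.mp (Nat.eq_one_of_dvd_coprimes ((Nat.coprime_two_right.mpr hn).pow_right i)
    (orderOf_dvd_of_pow_eq_one h1) (orderOf_dvd_of_pow_eq_one h2))
  exact ((QuotientGroup.eq_one_iff (⟨s, hsN⟩ : N)).mp h3 : (⟨s, hsN⟩ : N) ∈ J)

/-- Every element of the base group lifts into `C`. -/
theorem exists_covC {z : permGrp X (X ⧸ H)} (hz : z ∈ baseGrp L) : ∃ c ∈ covC P L, img H c = z := by
  obtain ⟨s, hs, rfl⟩ := F.exists_over hz
  obtain ⟨r, hr, c, hc, rfl⟩ := F.decomp hs hz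
  exact ⟨c, hc, by rw [map_mul, img_mem_core.mpr hr.2, one_mul]⟩

/-- `C_H(R)` permutes the involutions of the base point transitively, normalising `C`. -/
theorem trans {e f : ↥L} (he : e ∈ invBase L) (hf : f ∈ invBase L) :
    ∃ h ∈ H, (∀ r ∈ kerR H P, Commute h r) ∧ (∀ c ∈ covC P L, h * c * h⁻¹ ∈ covC P L) ∧
      img H h * (e : permGrp X (X ⧸ H)) * (img H h)⁻¹ = f := by
  haveI : Fact (Nat.Prime 2) := ⟨Nat.prime_two⟩
  haveI := F.faithful
  obtain ⟨τ, Q, hS, -⟩ := F.setup
  set R := kerR H P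
  obtain ⟨k, hkI, hke⟩ := RankOne.exists_conj_inverted hS he hf
  obtain ⟨hka, -⟩ := (RankOne.mem_D hS).mp hkI.1
  have hτ : τ ≠ 1 ∧ τ * τ = 1 := ⟨hS.ne_one, hS.mul_self⟩
  -- `k` is in the image of `C(R)`, being a product of two involutions
  obtain ⟨x, hxC, hxk⟩ : ∃ x ∈ Subgroup.centralizer (R : Set X), img H x = (k⁻¹ : ↥L) := by
    by_cases hk1 : k = 1
    · exact ⟨1, one_mem _, by rw [hk1, map_one, inv_one]; rfl⟩
    have hkt : k⁻¹ * τ ≠ 1 := fun e1 => RankOne.ta_ne hS (by
      rw [mul_eq_one_iff_inv_eq, inv_inv] at e1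
      rw [← e1]; exact hka)
    have hkt2 : k⁻¹ * τ * (k⁻¹ * τ) = 1 := by
      have h1 : τ * k * τ⁻¹ = k⁻¹ := hkI.2
      calc k⁻¹ * τ * (k⁻¹ * τ) = k⁻¹ * (τ * k * τ⁻¹)⁻¹ * (τ * τ) := by group
        _ = 1 := by rw [h1, hτ.2, inv_inv, inv_mul_cancel, one_mul]
    obtain ⟨a, ha, ha'⟩ := F.cover hkt hkt2
    obtain ⟨b, hb, hb'⟩ := F.cover hτ.1 hτ.2
    refine ⟨a * b, mul_mem ha hb, ?_⟩
    rw [map_mul, ha', hb', ← Subgroup.coe_mul, mul_assoc, hτ.2, mul_one]
  have hxH : x ∈ H := fix_base.mp (by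
    show img H x • base H = base H
    rw [hxk]
    show (k⁻¹ : ↥L) • base H = base H
    exact inv_smul_eq_iff.mpr hka.symm)
  -- Frattini inside `N_H(R)`
  set A := H ⊓ Subgroup.normalizer (R : Set X)
  set N0 : Subgroup A := (Subgroup.centralizer (R : Set X) ⊓ (baseGrp L).comap (img H)).subgroupOf A
  haveI hN0 : N0.Normal := ⟨fun c hc g => by
    obtain ⟨hcC, hcb⟩ := Subgroup.mem_inf.mp hc
    refine Subgroup.mem_inf.mpr ⟨Subgroup.mem_centralizer_iff.mpr fun r hr => ?_, ?_⟩
    · have h1 := Subgroup.mem_centralizer_iff.mp hcC ((g : X)⁻¹ * r * g)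
        ((Subgroup.mem_normalizer_iff''.mp g.2.2 r).mp hr)
      show r * ((g : X) * c * (g : X)⁻¹) = (g : X) * c * (g : X)⁻¹ * r
      calc r * ((g : X) * c * (g : X)⁻¹) = g * (((g : X)⁻¹ * r * g) * c) * (g : X)⁻¹ := by group
        _ = g * ((c : X) * ((g : X)⁻¹ * r * g)) * (g : X)⁻¹ := congrArg (fun z => (g : X) * z * (g : X)⁻¹) h1
        _ = _ := by group
    · show img H ((g : X) * c * (g : X)⁻¹) ∈ baseGrp L
      rw [map_mul, map_mul, map_inv]
      exact (Subgroup.mem_normalizer_iff.mp (F.baseGrp_norm (fix_base.mpr g.2.1)) _).mp hcb⟩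
  have hPA : (P : Subgroup X) ≤ A := le_inf F.pt.P_le F.kerR_norm
  have hfr := RootBlocks.frattini_inf (P.subtype hPA) (K := N0)
  have hxA : x ∈ A := ⟨hxH, Comp.mem_normalizer_of_maps fun r hr => by
    rw [← Subgroup.mem_centralizer_iff.mp hxC r hr, mul_inv_cancel_right]; exact hr⟩
  obtain ⟨n, hn, j, hj, hnj⟩ := Subgroup.mem_sup_of_normal_right.mp
    (show (⟨x, hxA⟩ : A) ∈ _ ⊔ N0 by rw [hfr]; exact Subgroup.mem_top _)
  have hnx : (n : X) = x * (j : X)⁻¹ := eq_mul_inv_of_mul_eq (congrArg Subtype.val hnj)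
  refine ⟨n, n.2.1, fun r hr => ?_, fun c hc => ?_, ?_⟩
  · have h1 : (n : X) ∈ Subgroup.centralizer (R : Set X) := hnx ▸ mul_mem hxC (inv_mem (Subgroup.mem_inf.mp hj).1)
    exact (Subgroup.mem_centralizer_iff.mp h1 r hr).symm
  · obtain ⟨hcP, hcR, hcb⟩ := mem_covC.mp hc
    have hc' : (⟨c, hPA hcP⟩ : A) ∈ ((P.subtype hPA : Sylow 2 A) : Subgroup A) ⊓ N0 :=
      ⟨hcP, Subgroup.mem_inf.mpr ⟨Subgroup.mem_centralizer_iff.mpr fun r hr => (hcR r hr).eq.symm, hcb⟩⟩
    obtain ⟨h1, h2⟩ := (Subgroup.mem_normalizer_iff.mp hn _).mp hc'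
    exact mem_covC.mpr ⟨h1, fun r hr => (Subgroup.mem_centralizer_iff.mp (Subgroup.mem_inf.mp h2).1 r hr).symm,
      (Subgroup.mem_inf.mp h2).2⟩
  · have hjb : img H (j : X) ∈ baseGrp L := (Subgroup.mem_inf.mp hj).2
    have he' : (e : permGrp X (X ⧸ H)) ∈ baseGrp L := F.mem_baseGrp.mpr (Or.inr ⟨e, he, rfl⟩)
    rw [hnx, map_mul, map_inv, hxk]
    have h5 := (F.baseGrp_comm hjb he').inv_left.eq
    calc ((k⁻¹ : ↥L) : permGrp X (X ⧸ H)) * (img H (j : X))⁻¹ * e * (((k⁻¹ : ↥L) : permGrp X (X ⧸ H)) * (img H (j : X))⁻¹)⁻¹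
        = ((k⁻¹ : ↥L) : permGrp X (X ⧸ H)) * ((img H (j : X))⁻¹ * e) * img H (j : X) * ((k⁻¹ : ↥L) : permGrp X (X ⧸ H))⁻¹ := by group
      _ = ((k⁻¹ : ↥L) : permGrp X (X ⧸ H)) * (e * (img H (j : X))⁻¹) * img H (j : X) * ((k⁻¹ : ↥L) : permGrp X (X ⧸ H))⁻¹ := by rw [h5]
      _ = ((k⁻¹ * e * k : ↥L) : permGrp X (X ⧸ H)) := by push_cast; group
      _ = _ := by rw [hke]

end Frame

end CfsgLib.CoreKill.Local
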