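import Cfsg.Agent.Lib.CoreKill.Local.Cover
import Cfsg.Agent.Lib.UniqueSubgroup
import Cfsg.Agent.Lib.ZStar.BrauerSuzuki

/-!
The commutator form on `C`: `C` contains a member and then either its involutions commute or every member centralises
two involutions with a product of order four; or `C` has one involution and `R` is quaternion.

Blueprint: `blueprint/bender/CoreKill.md`, 2.
-/

set_option autoImplicit false
set_option linter.unusedSectionVars false

namespace CfsgLib.CoreKill.Local

open Cfsg MulAction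
open CfsgLib.Bender.TwoClosed (IsInv)
open CfsgLib.Bender.Q (permGrp permImg permImg_eq_one)

universe u

/-- In a generalised quaternion group: an element of order four has a partner of order four anticommuting with it. -/
theorem quaternion_partner {n : ℕ} (hn : 1 ≤ n) {q : QuaternionGroup (2 ^ n)}
    (hq : q * q = QuaternionGroup.a ((2 ^ n : ℕ) : ZMod (2 * 2 ^ n))) :
    ∃ q' : QuaternionGroup (2 ^ n), q' * q' = QuaternionGroup.a ((2 ^ n : ℕ) : ZMod (2 * 2 ^ n)) ∧
      q * q' = q' * q * QuaternionGroup.a ((2 ^ n : ℕ) : ZMod (2 * 2 ^ n)) := by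
  set k : ZMod (2 * 2 ^ n) := ((2 ^ n : ℕ) : ZMod (2 * 2 ^ n)) with hk
  have hkk : k + k = 0 := by
    rw [hk, ← Nat.cast_add, ← two_mul]
    exact ZMod.natCast_self _
  rcases q with i | i
  · refine ⟨QuaternionGroup.xa 0, ?_, ?_⟩
    · rw [QuaternionGroup.xa_mul_xa]
      simp [hk]
    · rw [QuaternionGroup.a_mul_a] at hq
      have hi : i + i = k := QuaternionGroup.a.inj hq
      rw [QuaternionGroup.a_mul_xa, QuaternionGroup.xa_mul_a, QuaternionGroup.xa_mul_a]
      congr 1
      linear_combination -hi - hkk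
  · obtain ⟨j, hj⟩ : ∃ j : ZMod (2 * 2 ^ n), j + j = k := by
      obtain ⟨m, rfl⟩ := Nat.exists_eq_add_of_le' hn
      refine ⟨((2 ^ m : ℕ) : ZMod _), ?_⟩
      rw [hk, pow_succ, ← Nat.cast_add]
      congr 1
      omega
    refine ⟨QuaternionGroup.a j, by rw [QuaternionGroup.a_mul_a, hj], ?_⟩
    rw [QuaternionGroup.xa_mul_a, QuaternionGroup.a_mul_xa, QuaternionGroup.xa_mul_a]
    congr 1
    linear_combination hj

variable {X : Type u} [Group X] [Finite X] {H : Subgroup X} {P : Sylow 2 X} {t : X}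

namespace Pt0

variable (h : Pt0 H P t)
include h

theorem eq_one_or_t {x : X} (hx : x * x = 1) (hxK : x ∈ H.normalCore) : x = 1 ∨ x = t := by
  by_cases h1 : x = 1
  · exact Or.inl h1
  · exact Or.inr (h.kernel_inv ⟨h1, hx⟩ hxK)

/-- A noncentral `R`: its centre is `{1, t}` and its elements of square `t` have anticommuting partners. -/
theorem kerR_quat {a b : X} (ha : a ∈ kerR H P) (hb : b ∈ kerR H P) (hab : ¬ Commute a b) :
    (∀ r ∈ kerR H P, (∀ r' ∈ kerR H P, Commute r r') → r = 1 ∨ r = t) ∧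
      ∀ r ∈ kerR H P, r * r = t → ∃ r' ∈ kerR H P, r' * r' = t ∧ r * r' = r' * r * t := by
  haveI : Fact (Nat.Prime 2) := ⟨Nat.prime_two⟩
  set R := kerR H P
  have huniq : ∀ x : R, x ^ 2 = 1 → x ∈ Subgroup.zpowers (⟨t, h.t_mem_R⟩ : R) := by
    intro x hx
    have hx' : (x : X) * x = 1 := by
      have := congrArg Subtype.val hx
      simpa [pow_two] using this
    rcases h.eq_one_or_t hx' x.2.2 with e | e
    · rw [show x = 1 from Subtype.ext e]; exact one_mem _
    · rw [show x = ⟨t, h.t_mem_R⟩ from Subtype.ext e]; exact Subgroup.mem_zpowers _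
  have hz : orderOf (⟨t, h.t_mem_R⟩ : R) = 2 := by
    rw [Subgroup.orderOf_mk]; exact Bender.Assembly.orderOf_two h.inv
  rcases CfsgLib.UniqueSubgroup.cyclic_or_quaternion (P.2.to_le inf_le_left) hz huniq with hc | ⟨-, n, hn, ⟨e⟩⟩
  · exfalso
    haveI := hc
    letI := hc.commGroup
    exact hab (congrArg Subtype.val (mul_comm (⟨a, ha⟩ : R) ⟨b, hb⟩))
  haveI : NeZero (2 ^ n) := ⟨by positivity⟩
  set z : QuaternionGroup (2 ^ n) := QuaternionGroup.a ((2 ^ n : ℕ) : ZMod (2 * 2 ^ n)) with hz'
  have hez : e ⟨t, h.t_mem_R⟩ = z := by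
    have hz2 : z * z = 1 := by
      rw [hz', QuaternionGroup.a_mul_a, ← Nat.cast_add, ← two_mul, ZMod.natCast_self, QuaternionGroup.a_zero]
    have hz1 : z ≠ 1 := by
      rw [hz', ← QuaternionGroup.a_zero]
      intro e1
      have h1 := congrArg ZMod.val (QuaternionGroup.a.inj e1)
      rw [ZMod.val_natCast, ZMod.val_zero, Nat.mod_eq_of_lt (by have : 0 < 2 ^ n := (by positivity); omega)] at h1
      exact absurd h1 (by positivity)
    rcases h.eq_one_or_t (x := ((e.symm z : R) : X))
      (by rw [← Subgroup.coe_mul, ← map_mul, hz2, map_one]; rfl) (e.symm z).2.2 with e1 | e1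
    · exact absurd (by rw [← e.apply_symm_apply z, show e.symm z = 1 from Subtype.ext e1, map_one]) hz1
    · rw [show (⟨t, h.t_mem_R⟩ : R) = e.symm z from Subtype.ext e1.symm, e.apply_symm_apply]
  refine ⟨fun r hr hrc => ?_, fun r hr hr2 => ?_⟩
  · have h1 := CfsgLib.ZStar.quaternion_center (k := 2 ^ n) (q := e ⟨r, hr⟩)
      (by calc 2 = 2 ^ 1 := (pow_one 2).symm
            _ ≤ 2 ^ n := Nat.pow_le_pow_right two_pos hn) fun q => by
        obtain ⟨r', rfl⟩ := e.surjective q
        rw [← map_mul, ← map_mul]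
        exact congrArg e (Subtype.ext (hrc r' r'.2))
    rw [← map_mul, ← map_one e] at h1
    exact h.eq_one_or_t (congrArg Subtype.val (e.injective h1)) hr.2
  · obtain ⟨q', hq', hqq⟩ := quaternion_partner hn (q := e ⟨r, hr⟩)
      (by rw [← map_mul, ← hz', ← hez]; exact congrArg e (Subtype.ext hr2))
    obtain ⟨r', rfl⟩ := e.surjective q'
    rw [← map_mul, ← hz', ← hez] at hq'
    rw [← map_mul, ← map_mul, ← hz', ← hez, ← map_mul] at hqq
    exact ⟨r', r'.2, congrArg Subtype.val (e.injective hq'), congrArg Subtype.val (e.injective hqq)⟩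

end Pt0

namespace Frame

variable {L : Subgroup (permGrp X (X ⧸ H))} (F : Frame H P t L)
include F

theorem baseGrp_sq {z : permGrp X (X ⧸ H)} (hz : z ∈ baseGrp L) : z * z = 1 := by
  rcases F.mem_baseGrp.mp hz with rfl | ⟨e, he, rfl⟩
  · exact one_mul 1
  · exact congrArg Subtype.val he.2.2

/-- An element of the kernel lying in `C` is a central element of `R`. -/
theorem covC_kernel {c : X} (hc : c ∈ covC P L) (hcK : img H c = 1) :
    c ∈ kerR H P ∧ ∀ d ∈ covC P L, Commute c d := by
  have hcR : c ∈ kerR H P := ⟨(mem_covC.mp hc).1, img_mem_core.mp hcK⟩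
  exact ⟨hcR, fun d hd => ((mem_covC.mp hd).2.1 c hcR).symm⟩

theorem sq_mem {c : X} (hc : c ∈ covC P L) : c * c ∈ covC P L ∧ img H (c * c) = 1 :=
  ⟨mul_mem hc hc, by rw [map_mul]; exact F.baseGrp_sq (mem_covC.mp hc).2.2⟩

/-- The form: two elements of `C` commute or anticommute. -/
theorem comm_or {c d : X} (hc : c ∈ covC P L) (hd : d ∈ covC P L) : Commute c d ∨ c * d = d * c * t := by
  set k := c * d * c⁻¹ * d⁻¹ with hk
  have hcd : c * d = k * (d * c) := by rw [hk]; group
  obtain ⟨hkR, hkc⟩ := F.covC_kernel (c := k) (mul_mem (mul_mem (mul_mem hc hd) (inv_mem hc)) (inv_mem hd)) (by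
    simp only [hk, map_mul, map_inv]
    rw [(F.baseGrp_comm (mem_covC.mp hc).2.2 (mem_covC.mp hd).2.2).eq]
    group)
  have hcc : Commute (c * c) d := (F.covC_kernel (F.sq_mem hc).1 (F.sq_mem hc).2).2 d hd
  have hkk : k * k = 1 := by
    have h1 : k * (k * (d * (c * c))) = c * c * d := by
      calc k * (k * (d * (c * c))) = k * (k * (d * c) * c) := by simp only [mul_assoc]
        _ = k * (c * d * c) := by rw [hcd]
        _ = k * c * (d * c) := by simp only [mul_assoc]
        _ = c * k * (d * c) := by rw [(hkc c hc).eq]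
        _ = c * (c * d) := by rw [mul_assoc, ← hcd]
        _ = c * c * d := (mul_assoc _ _ _).symm
    rw [← mul_assoc, hcc.eq] at h1
    exact mul_eq_right.mp h1
  rcases F.pt.eq_one_or_t hkk hkR.2 with e | e
  · exact Or.inl (by rw [Commute, SemiconjBy, hcd, e, one_mul])
  · exact Or.inr (by rw [hcd, e, (F.pt.central _).eq])

/-- A transporter: two elements of `C` outside the kernel are conjugate modulo the kernel under an element of `H`
centralising `R` and normalising `C`. -/
theorem exists_transport {c d : X} (hc : c ∈ covC P L) (hc1 : img H c ≠ 1) (hd : d ∈ covC P L) (hd1 : img H d ≠ 1) :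
    ∃ h ∈ H, (∀ r ∈ kerR H P, Commute h r) ∧ (∀ x ∈ covC P L, h * x * h⁻¹ ∈ covC P L) ∧
      img H (h * c * h⁻¹) = img H d := by
  obtain ⟨e, he, hec⟩ := (F.mem_baseGrp.mp (mem_covC.mp hc).2.2).resolve_left hc1
  obtain ⟨f, hf, hfd⟩ := (F.mem_baseGrp.mp (mem_covC.mp hd).2.2).resolve_left hd1
  obtain ⟨g, hgH, hgR, hgC, hg⟩ := F.trans he hf
  exact ⟨g, hgH, hgR, hgC, by rw [map_mul, map_mul, map_inv, ← hec, ← hfd, hg]⟩

/-- One element of `C` outside the kernel central in `C` makes `C` abelian. -/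
theorem comm_of_central {c : X} (hc : c ∈ covC P L) (hc1 : img H c ≠ 1) (hcc : ∀ x ∈ covC P L, Commute c x) :
    ∀ d ∈ covC P L, ∀ x ∈ covC P L, Commute d x := by
  intro d hd x hx
  by_cases hd1 : img H d = 1
  · exact (F.covC_kernel hd hd1).2 x hx
  obtain ⟨g, -, -, hgC, hg⟩ := F.exists_transport hc hc1 hd hd1
  have hsurj : ∀ z ∈ covC P L, ∃ z' ∈ covC P L, g * z' * g⁻¹ = z := by
    intro z hz
    have hle : (covC P L).map (MulAut.conj g).toMonoidHom ≤ covC P L := by
      rintro _ ⟨w, hw, rfl⟩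
      exact hgC w hw
    have heq : (covC P L).map (MulAut.conj g).toMonoidHom = covC P L := Subgroup.eq_of_le_of_card_ge hle (by
      rw [Subgroup.card_map_of_injective (MulAut.conj g).injective])
    obtain ⟨w, hw, e⟩ := heq.ge hz
    exact ⟨w, hw, e⟩
  have hgc : ∀ z ∈ covC P L, Commute (g * c * g⁻¹) z := by
    intro z hz
    obtain ⟨z', hz', rfl⟩ := hsurj z hz
    show (MulAut.conj g) c * (MulAut.conj g) z' = (MulAut.conj g) z' * (MulAut.conj g) c
    rw [← map_mul, ← map_mul, (hcc z' hz').eq]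
  have hk := (F.covC_kernel (c := (g * c * g⁻¹)⁻¹ * d) (mul_mem (inv_mem (hgC c hc)) hd)
    (by rw [map_mul, map_inv, hg, inv_mul_cancel])).2 x hx
  rw [show d = g * c * g⁻¹ * ((g * c * g⁻¹)⁻¹ * d) by rw [mul_inv_cancel_left]]
  exact (hgc x hx).mul_left hk

/-- A member of `P` is a product of an element of `R` and one of `C` outside the kernel. -/
theorem member_decomp {u : X} (hu : u ∈ (P : Subgroup X)) (hui : IsInv u) (hut : u ≠ t) :
    ∃ r ∈ kerR H P, ∃ c ∈ covC P L, u = r * c ∧ img H c ≠ 1 ∧ r * r * (c * c) = 1 := by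
  obtain ⟨r, hr, c, hc, rfl⟩ := F.decomp hu (F.mem_over hui (F.pt.P_le hu))
  refine ⟨r, hr, c, hc, rfl, fun e => F.pt.img_ne_one hui hut ?_, ?_⟩
  · rw [map_mul, img_mem_core.mpr hr.2, one_mul, e]
  · have h2 : r * c * (r * c) = 1 := hui.2
    rwa [((mem_covC.mp hc).2.1 r hr).mul_mul_mul_comm] at h2

/-- Every element of `C` outside the kernel is a member times a central element of `R`, once `C` has a member. -/
theorem exists_lift_inv {w : X} (hw : w ∈ covC P L) (hwi : IsInv w) (hwt : w ≠ t) {d : X} (hd : d ∈ covC P L)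
    (hd1 : img H d ≠ 1) :
    ∃ p ∈ covC P L, IsInv p ∧ img H p = img H d ∧ ∀ x ∈ covC P L, Commute (p⁻¹ * d) x := by
  have hw1 : img H w ≠ 1 := F.pt.img_ne_one hwi hwt
  obtain ⟨g, -, -, hgC, hg⟩ := F.exists_transport hw hw1 hd hd1
  exact ⟨g * w * g⁻¹, hgC w hw, hwi.conj g, hg, (F.covC_kernel (mul_mem (inv_mem (hgC w hw)) hd)
    (by rw [map_mul, map_inv, hg, inv_mul_cancel])).2⟩

/-- Once `C` has a member, all members of `P` lie in it. -/
theorem member_mem {w : X} (hw : w ∈ covC P L) (hwi : IsInv w) (hwt : w ≠ t) {u : X} (hu : u ∈ (P : Subgroup X))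
    (hui : IsInv u) (hut : u ≠ t) : u ∈ covC P L := by
  obtain ⟨r, hr, c, hc, rfl, hc1, -⟩ := F.member_decomp hu hui hut
  obtain ⟨p, hp, hpi, hpe, -⟩ := F.exists_lift_inv hw hwi hwt hc hc1
  have hpc : p⁻¹ * c ∈ kerR H P := (F.covC_kernel (mul_mem (inv_mem hp) hc)
    (by rw [map_mul, map_inv, hpe, inv_mul_cancel])).1
  -- `u = p s` with `s` in `R`, an involution or trivial
  set s := r * (p⁻¹ * c) with hs
  have hsR : s ∈ kerR H P := mul_mem hr hpc
  have he : r * c = p * s := by
    calc r * c = r * p * (p⁻¹ * c) := by group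
      _ = p * r * (p⁻¹ * c) := by rw [((mem_covC.mp hp).2.1 r hr).eq]
      _ = p * s := mul_assoc _ _ _
  have hs2 : s * s = 1 := by
    have h2 : r * c * (r * c) = 1 := hui.2
    rw [he, ((mem_covC.mp hp).2.1 s hsR).symm.mul_mul_mul_comm, hpi.2, one_mul] at h2
    exact h2
  rw [he]
  refine mul_mem hp ?_
  rcases F.pt.eq_one_or_t hs2 hsR.2 with e | e
  · rw [e]; exact one_mem _
  · rw [e]
    exact mem_covC.mpr ⟨F.pt.t_mem_P, fun r' _ => (F.pt.central r').symm, by rw [F.pt.img_t]; exact one_mem _⟩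

/-- A member of `C` whose centraliser there is abelian has `C` generated modulo the centre by itself and one more
element, so two commuting members with different images make `C` abelian. -/
theorem cent_nonabelian {u : X} (hu : u ∈ covC P L) {v y : X} (hv : v ∈ covC P L) (hy : y ∈ covC P L)
    (hvy : Commute v y) (hv1 : img H v ≠ 1) (hy1 : img H y ≠ 1) (hne : img H v ≠ img H y)
    (hnc : ∃ c ∈ covC P L, ∃ d ∈ covC P L, ¬ Commute c d) :
    ∃ c ∈ covC P L, ∃ d ∈ covC P L, Commute c u ∧ Commute d u ∧ ¬ Commute c d := by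
  by_contra hcon
  push Not at hcon
  obtain ⟨c₁, hc₁, d₁, hd₁, hcd₁⟩ := hnc
  have hcen : ∀ {z}, z ∈ covC P L → img H z ≠ 1 → ∃ x ∈ covC P L, ¬ Commute z x := by
    intro z hz hz1
    by_contra hall
    push Not at hall
    exact hcd₁ (F.comm_of_central hz hz1 hall c₁ hc₁ d₁ hd₁)
  by_cases hu1 : ∀ x ∈ covC P L, Commute u x
  · exact hcd₁ (hcon c₁ hc₁ d₁ hd₁ (hu1 c₁ hc₁).symm (hu1 d₁ hd₁).symm)
  push Not at hu1
  obtain ⟨d, hd, hdu⟩ := hu1
  -- two elements moving one third differ by one commuting with it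
  have hdiff : ∀ {a b z : X}, a ∈ covC P L → b ∈ covC P L → z ∈ covC P L → ¬ Commute a z → ¬ Commute b z →
      Commute (a * b) z := by
    intro a b z ha hb hz han hbn
    have h1 := (F.comm_or ha hz).resolve_left han
    have h2 := (F.comm_or hb hz).resolve_left hbn
    show a * b * z = z * (a * b)
    calc a * b * z = a * (b * z) := mul_assoc _ _ _
      _ = a * z * b * t := by rw [h2]; simp only [mul_assoc]
      _ = z * a * (t * b) * t := by rw [h1]; simp only [mul_assoc]
      _ = z * (a * b) * (t * t) := by rw [← (F.pt.central b).eq]; simp only [mul_assoc]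
      _ = z * (a * b) := by rw [F.pt.inv.2, mul_one]
  have hdu' : ¬ Commute d u := fun e => hdu e.symm
  -- an element commuting with `u` and `d` is in the kernel
  have hker : ∀ {z}, z ∈ covC P L → Commute z u → Commute z d → img H z = 1 := by
    intro z hz hzu hzd
    by_contra hz1
    obtain ⟨x, hx, hzx⟩ := hcen hz hz1
    by_cases hxu : Commute x u
    · exact hzx (hcon z hz x hx hzu hxu)
    · have h1 : Commute z (x * d) :=
        hcon z hz (x * d) (mul_mem hx hd) hzu (hdiff hx hd hu hxu hdu')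
      refine hzx ?_
      simpa [mul_assoc] using h1.mul_right hzd.inv_right
  -- so `C` has at most four classes modulo the kernel
  have hfour : ∀ z ∈ covC P L,
      img H z = 1 ∨ img H z = img H u ∨ img H z = img H d ∨ img H z = img H u * img H d := by
    intro z hz
    by_cases hzu : Commute z u
    · by_cases hzd : Commute z d
      · exact Or.inl (hker hz hzu hzd)
      · refine Or.inr (Or.inl ?_)
        have h1 := hker (mul_mem hz hu) (hzu.mul_left (Commute.refl u)) (hdiff hz hu hd hzd hdu)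
        rw [map_mul, ← F.baseGrp_sq (mem_covC.mp hu).2.2] at h1
        exact mul_right_cancel h1
    · by_cases hzd : Commute z d
      · refine Or.inr (Or.inr (Or.inl ?_))
        have h1 := hker (mul_mem hz hd) (hdiff hz hd hu hzu hdu') (hzd.mul_left (Commute.refl d))
        rw [map_mul, ← F.baseGrp_sq (mem_covC.mp hd).2.2] at h1
        exact mul_right_cancel h1
      · refine Or.inr (Or.inr (Or.inr ?_))
        have h1 := hker (z := z * (u * d)) (mul_mem hz (mul_mem hu hd))
          (by
            have h5 : ¬ Commute (u * d) u := fun e => hdu' (by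
              simpa [← mul_assoc] using (Commute.refl u).inv_left.mul_left e)
            exact hdiff hz (mul_mem hu hd) hu hzu h5)
          (by
            have h5 : ¬ Commute (u * d) d := fun e => hdu (by
              simpa [mul_assoc] using e.mul_left (Commute.refl d).inv_left)
            exact hdiff hz (mul_mem hu hd) hd hzd h5)
        have hud := (mem_covC.mp (mul_mem hu hd)).2.2
        rw [map_mul, ← F.baseGrp_sq hud, map_mul] at h1
        rw [← map_mul] at h1 ⊢
        exact mul_right_cancel h1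
  -- `v` and `y` cover them
  have hvy1 : img H (v * y) ≠ 1 := by
    rw [map_mul, ← F.baseGrp_sq (mem_covC.mp hy).2.2]
    exact fun e => hne (mul_right_cancel e)
  have hall : ∀ z ∈ covC P L, ∃ w ∈ ({1, v, y, v * y} : Set X), img H z = img H w := by
    intro z hz
    by_contra hno
    push Not at hno
    have hv' : img H v ≠ img H (v * y) := fun e => hy1 (by rw [map_mul] at e; exact mul_eq_left.mp e.symm)
    have hy' : img H y ≠ img H (v * y) := fun e => hv1 (by rw [map_mul] at e; exact mul_eq_right.mp e.symm)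
    have hz1 := hno 1 (by simp)
    have hzv := hno v (by simp)
    have hzy := hno y (by simp)
    have hzvy := hno (v * y) (by simp)
    rw [map_one] at hz1
    rcases (hfour v hv).resolve_left hv1 with e1 | e1 | e1 <;>
    rcases (hfour y hy).resolve_left hy1 with e2 | e2 | e2 <;>
    rcases (hfour (v * y) (mul_mem hv hy)).resolve_left hvy1 with e3 | e3 | e3 <;>
    first
    | exact hne (e1.trans e2.symm)
    | exact hv' (e1.trans e3.symm)
    | exact hy' (e2.trans e3.symm)
    | (rcases (hfour z hz).resolve_left hz1 with e4 | e4 | e4 <;>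
       first
       | exact hzv (e4.trans e1.symm)
       | exact hzy (e4.trans e2.symm)
       | exact hzvy (e4.trans e3.symm))
  refine hcd₁ ?_
  have hsplit : ∀ z ∈ covC P L, ∃ w ∈ ({1, v, y, v * y} : Set X), ∀ x ∈ covC P L, Commute (w⁻¹ * z) x := by
    intro z hz
    obtain ⟨w, hw, e⟩ := hall z hz
    have hwC : w ∈ covC P L := by
      rcases hw with rfl | rfl | rfl | rfl
      · exact one_mem _
      · exact hv
      · exact hy
      · exact mul_mem hv hy
    exact ⟨w, hw, (F.covC_kernel (mul_mem (inv_mem hwC) hz) (by rw [map_mul, map_inv, e, inv_mul_cancel])).2⟩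
  obtain ⟨w, hw, hwc⟩ := hsplit c₁ hc₁
  obtain ⟨w', hw', hwd⟩ := hsplit d₁ hd₁
  have hwC : w ∈ covC P L := by
    rcases hw with rfl | rfl | rfl | rfl
    · exact one_mem _
    · exact hv
    · exact hy
    · exact mul_mem hv hy
  have hww : Commute w w' := by
    have hxx : ∀ x ∈ ({1, v, y, v * y} : Set X), Commute x v ∧ Commute x y := by
      rintro x (rfl | rfl | rfl | rfl)
      · exact ⟨Commute.one_left _, Commute.one_left _⟩
      · exact ⟨Commute.refl _, hvy⟩
      · exact ⟨hvy.symm, Commute.refl _⟩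
      · exact ⟨(Commute.refl v).mul_left hvy.symm, hvy.mul_left (Commute.refl y)⟩
    rcases hw' with rfl | rfl | rfl | rfl
    · exact Commute.one_right _
    · exact (hxx w hw).1
    · exact (hxx w hw).2
    · exact (hxx w hw).1.mul_right (hxx w hw).2
  have h1 : Commute w d₁ := by
    rw [show d₁ = w' * (w'⁻¹ * d₁) by rw [mul_inv_cancel_left]]
    exact hww.mul_right (hwd w hwC).symm
  rw [show c₁ = w * (w⁻¹ * c₁) by rw [mul_inv_cancel_left]]
  exact h1.mul_left (hwc d₁ hd₁)

/-- `C` with a member: its involutions commute, or every member centralises two involutions with a product of order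
four. -/
theorem pairs_of_member {w : X} (hw : w ∈ covC P L) (hwi : IsInv w) (hwt : w ≠ t) {v y : X}
    (hv : v ∈ (P : Subgroup X)) (hy : y ∈ (P : Subgroup X)) (hvi : IsInv v) (hyi : IsInv y) (hvt : v ≠ t) (hyt : y ≠ t)
    (hvy : Commute v y) (hne : img H v ≠ img H y) (hnc : ∃ c ∈ covC P L, ∃ d ∈ covC P L, ¬ Commute c d) :
    Pairs P t := by
  intro u hu hui hut
  have hM : ∀ {z}, z ∈ (P : Subgroup X) → IsInv z → z ≠ t → z ∈ covC P L :=
    fun {z} hz hzi hzt => F.member_mem hw hwi hwt hz hzi hzt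
  obtain ⟨c, hc, d, hd, hcu, hdu, hcd⟩ := F.cent_nonabelian (hM hu hui hut) (hM hv hvi hvt) (hM hy hyi hyt) hvy
    (F.pt.img_ne_one hvi hvt) (F.pt.img_ne_one hyi hyt) hne hnc
  have hc1 : img H c ≠ 1 := fun e => hcd ((F.covC_kernel hc e).2 d hd)
  have hd1 : img H d ≠ 1 := fun e => hcd ((F.covC_kernel hd e).2 c hc).symm
  obtain ⟨p, hp, hpi, -, hpc⟩ := F.exists_lift_inv hw hwi hwt hc hc1
  obtain ⟨q, hq, hqi, -, hqd⟩ := F.exists_lift_inv hw hwi hwt hd hd1
  have hstrip : ∀ {p c x : X}, Commute (p⁻¹ * c) x → Commute c x → Commute p x := fun {p c x} h1 h2 => by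
    simpa [mul_assoc] using h2.mul_left h1.inv_left
  refine ⟨p, q, hpi, hqi, hstrip (hpc u (hM hu hui hut)) hcu, hstrip (hqd u (hM hu hui hut)) hdu, ?_⟩
  have hpq : ¬ Commute p q := fun e => hcd (by
    have h1 : Commute c q := by
      rw [show c = p * (p⁻¹ * c) by rw [mul_inv_cancel_left]]
      exact e.mul_left (hpc q hq)
    rw [show d = q * (q⁻¹ * d) by rw [mul_inv_cancel_left]]
    exact h1.mul_right (hqd c hc).symm)
  calc p * q * (p * q) = p * q * (q * p * t) := by rw [(F.comm_or hp hq).resolve_left hpq]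
    _ = p * (q * q) * p * t := by simp only [mul_assoc]
    _ = t := by rw [hqi.2, mul_one, hpi.2, one_mul]

end Frame

end CfsgLib.CoreKill.Local
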