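import Cfsg.Agent.Lib.CoreKill.Local.Basic

/-!
Without failure the members' images lie in a normal subgroup with a one-fix action. So the members at a point
commute in the image, and an involution that is the square of a product of two involutions is `t`.

Blueprint: `blueprint/bender/CoreKill.md`, 2.
-/

set_option autoImplicit false
set_option linter.unusedSectionVars false
set_option linter.style.haveILetI false

namespace CfsgLib.CoreKill.Local

open Cfsg MulAction
open CfsgLib.Bender.TwoClosed (IsInv)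
open CfsgLib.Bender.Assembly (orderOf_two isInv_of_orderOf fix_iff)
open CfsgLib.Bender.Q (permGrp permImg permImg_eq_one)

universe u

variable {X : Type u} [Group X] [Finite X] {H : Subgroup X} {P : Sylow 2 X} {t y : X}

/-- A normal subgroup of the induced group with a one-fix action containing the images of all members. -/
structure Frame (H : Subgroup X) (P : Sylow 2 X) (t : X) (L : Subgroup (permGrp X (X ⧸ H))) : Prop where
  pt : Pt0 H P t
  normal : L.Normal
  oneFix : Bender.OneFix ↥L (X ⧸ H)
  mem : ∀ v : X, IsInv v → v ≠ t → img H v ∈ L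

/-- The involutions of the one-fix group at the base point. -/
abbrev invBase {H : Subgroup X} (L : Subgroup (permGrp X (X ⧸ H))) : Set ↥L :=
  involutionsIn (stabilizer ↥L (base H) : Set ↥L)

/-- Without failure there is a frame, given a member whose image commutes with that of `y` and differs from it, the
product fixing only the base point. -/
theorem Pt0.exists_frame (h : Pt0 H P t) (hy : IsY P t y) (hNF : NF H y) {v : X} (hvP : v ∈ (P : Subgroup X))
    (hv : IsInv v) (hvt : v ≠ t) (hne : img H v ≠ img H y) (hvc : Commute (img H v) (img H y))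
    (hfix : ∀ c : X ⧸ H, (v * y) • c = c → c = base H) :
    ∃ L : Subgroup (permGrp X (X ⧸ H)), Frame H P t L := by
  haveI : Fact (Nat.Prime 2) := ⟨Nat.prime_two⟩
  have hQ := h.hyp hy hNF
  haveI : Nontrivial (X ⧸ H) := hQ.nontriv
  set Z := img H '' conjugatesOf y with hZ
  set L := Subgroup.closure Z
  haveI hLn : L.Normal := ⟨fun x hx g => by
    have hle : L ≤ L.comap (MulAut.conj g).toMonoidHom :=
      (Subgroup.closure_le _).mpr fun z hz => Subgroup.subset_closure (hQ.conj z hz g)
    exact hle hx⟩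
  have hyi := h.img_inv hy.inv hy.ne
  have hyZ : img H y ∈ Z := ⟨y, mem_conjugatesOf_self, rfl⟩
  have hya : img H y • base H = base H := fix_base.mpr (h.P_le hy.mem)
  -- two commuting members
  obtain ⟨g, hgc, hgne⟩ : ∃ g : permGrp X (X ⧸ H),
      Commute (img H y) (g * img H y * g⁻¹) ∧ g * img H y * g⁻¹ ≠ img H y := by
    by_contra hcon
    push Not at hcon
    set O := oddCore (permGrp X (X ⧸ H)) with hO
    have hOodd : Odd (Nat.card O) := Nat.coprime_two_left.mp ((CfsgLib.card_pPrimeCore_coprime 2).symm)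
    have htrans : ∀ g : permGrp X (X ⧸ H), ∃ o ∈ O, o • base H = g • base H := by
      intro g
      have h1 := ZStar.inZStar (orderOf_two hyi) hcon g
      change g * img H y * g⁻¹ * (img H y)⁻¹ ∈ O at h1
      set d := g * img H y * g⁻¹ * (img H y)⁻¹ with hd
      obtain ⟨n, hn⟩ := CfsgLib.Involutions.exists_sqrt
        (hOodd.of_dvd_nat (Subgroup.orderOf_dvd_natCard O h1))
      have hinv : img H y * d * (img H y)⁻¹ = d⁻¹ := by
        rw [hd, hyi.inv]
        simp only [mul_inv_rev, inv_inv, hyi.inv, mul_assoc, hyi.2, mul_one]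
      have hpow : img H y * d ^ n * (img H y)⁻¹ = (d ^ n)⁻¹ := by
        rw [← conj_pow, hinv, inv_pow]
      have he : d ^ n * img H y * (d ^ n)⁻¹ = g * img H y * g⁻¹ := by
        have hcalc : img H y * (d ^ n)⁻¹ = d ^ n * img H y := by
          rw [← hpow, hyi.inv, ← mul_assoc, ← mul_assoc, hyi.2, one_mul]
        rw [mul_assoc, hcalc, ← mul_assoc, hn, hd, inv_mul_cancel_right]
      refine ⟨d ^ n, pow_mem h1 n, ?_⟩
      have hfix : (((d ^ n)⁻¹ * g) : permGrp X (X ⧸ H)) • base H = base H := by
        refine Bender.Q.commute_fix hQ hyZ hya ?_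
        calc (d ^ n)⁻¹ * g * img H y = (d ^ n)⁻¹ * (g * img H y * g⁻¹) * g := by group
          _ = (d ^ n)⁻¹ * (d ^ n * img H y * (d ^ n)⁻¹) * g := by rw [he]
          _ = _ := by group
      rw [mul_smul] at hfix
      exact (smul_eq_iff_eq_inv_smul _).mpr (by rw [hfix]) |>.symm ▸ rfl
    obtain ⟨U, hUc, hUn, hU2, -, -, hU⟩ := CoreKill.pair_group (h.img_inv hv hvt) hyi hne hvc
    haveI := hUc
    have hgen := coprime_generated_by_centralizers (K := O) hUn (by
      rw [Subgroup.normalizer_eq_top]; exact le_top) (by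
      obtain ⟨i, hi⟩ := IsPGroup.iff_card.mp hU2
      rw [hi]
      exact Nat.Coprime.pow_left i (Nat.coprime_two_left.mpr hOodd))
    have hfixO : O ≤ stabilizer (permGrp X (X ⧸ H)) (base H) := by
      rw [← hgen]
      refine iSup₂_le fun a ha z hz => mem_stabilizer_iff.mpr ?_
      have hz2 := Subgroup.mem_centralizer_singleton_iff.mp hz.2
      obtain ⟨x, rfl⟩ := img_surj z
      have hcase : ∀ w : X, (∀ c : X ⧸ H, w • c = c → c = base H) → w ∈ (P : Subgroup X) → a = img H w →
          img H x • base H = base H := by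
        intro w hw hwP e
        refine hw _ ?_
        show img H w • img H x • base H = img H x • base H
        rw [← mul_smul, ← e, ← hz2, mul_smul]
        exact congrArg _ (by rw [e]; exact fix_base.mpr (h.P_le hwP))
      have hone : ∀ {w : X}, IsInv w → w ≠ t → w ∈ (P : Subgroup X) → ∀ c : X ⧸ H, w • c = c → c = base H :=
        fun hw hwt hwP _ hc => h.eq_of_fix hw hwt hc (fix_base.mpr (h.P_le hwP))
      rcases hU a ha.1 with e | e | e | e
      · exact absurd e ha.2
      · exact hcase v (hone hv hvt hvP) hvP e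
      · exact hcase y (hone hy.inv hy.ne hy.mem) hy.mem e
      · exact hcase (v * y) hfix (mul_mem hvP hy.mem) (by rw [map_mul]; exact e)
    obtain ⟨c, hc⟩ := h.exists_ne_base
    induction c using QuotientGroup.induction_on with
    | _ g =>
      obtain ⟨o, ho, hog⟩ := htrans (img H g)
      refine hc ?_
      have h2 : img H g • base H = base H := hog ▸ mem_stabilizer_iff.mp (hfixO ho)
      have h3 : ((g : X) : X ⧸ H) = g • base H := by
        show _ = ((g * 1 : X) : X ⧸ H)
        rw [mul_one]
      rw [h3]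
      exact h2
  haveI : FaithfulSMul ↥L (X ⧸ H) := ⟨fun {a b} e => Subtype.ext (FaithfulSMul.eq_of_smul_eq_smul e)⟩
  have hfour : SuzukiRankOne.Four ↥L := ⟨⟨_, Subgroup.subset_closure hyZ⟩,
    ⟨g * img H y * g⁻¹, Subgroup.subset_closure (hQ.conj _ hyZ g)⟩, fun e => hyi.1 (congrArg Subtype.val e),
    fun e => (hyi.conj g).1 (congrArg Subtype.val e), fun e => hgne (congrArg Subtype.val e).symm,
    Subtype.ext hyi.2, Subtype.ext (hyi.conj g).2, Subtype.ext hgc.eq⟩
  have hF : Bender.OneFix ↥L (X ⧸ H) := by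
    refine ⟨⟨fun c d => ?_⟩, fun x hx => ?_, hfour⟩
    · by_cases hcd : c = d
      · exact ⟨1, by rw [one_smul, hcd]⟩
      · obtain ⟨u, hu, huc, -⟩ := Bender.Q.exists_swap hQ hcd
        exact ⟨⟨u, Subgroup.subset_closure hu⟩, huc⟩
    · exact Bender.Q.theoremQ _ (X ⧸ H) Z hQ x x.2 ⟨fun e => hx.1 (Subtype.ext e), congrArg Subtype.val hx.2⟩
  exact ⟨L, h, hLn, hF, fun v hv hvt => mem_of_one_fix L hF (h.img_inv hv hvt) (h.one_fix hv hvt)⟩

/-- Without failure there is a frame. -/
theorem Pt.exists_frame (h : Pt H P t) (hy : IsY P t y) (hNF : NF H y) :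
    ∃ L : Subgroup (permGrp X (X ⧸ H)), Frame H P t L := by
  obtain ⟨v, hvP, hv, hvt, hvy, hvyt, hvc⟩ := h.exists_partner hy
  have hvy1 : IsInv (v * y) := ⟨fun e => hvy ((mul_eq_one_iff_eq_inv.mp e).trans hy.inv.inv),
    by rw [hvc.symm.mul_mul_mul_comm, hv.2, hy.inv.2, one_mul]⟩
  have hvyt' : v * y ≠ t := fun e => hvyt (by
    rw [(h.central y).eq, ← e, mul_assoc, hy.inv.2, mul_one])
  refine h.toPt0.exists_frame hy hNF hvP hv hvt (fun e => h.img_ne_one hvy1 hvyt' ?_) (hvc.map (img H)) fun c hc =>
    h.eq_of_fix hvy1 hvyt' hc (fix_base.mpr (h.P_le (mul_mem hvP hy.mem)))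
  rw [map_mul, e, (h.img_inv hy.inv hy.ne).2]

namespace Frame

variable {L : Subgroup (permGrp X (X ⧸ H))} (F : Frame H P t L)
include F

theorem faithful : FaithfulSMul ↥L (X ⧸ H) :=
  ⟨fun {a b} e => Subtype.ext (FaithfulSMul.eq_of_smul_eq_smul e)⟩

/-- Bender's regular subgroup at the base point. -/
theorem setup : ∃ (τ : ↥L) (Q : Subgroup ↥L), IsRankOneSetup ↥L (X ⧸ H) (base H) τ Q ∧ IsPGroup 2 Q := by
  haveI := F.faithful
  exact Bender.Assembly.goodAll ↥L (X ⧸ H) F.oneFix (base H)

/-- The image of a member of `H`. -/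
theorem mem_base {v : X} (hv : IsInv v) (hvt : v ≠ t) (hvH : v ∈ H) :
    (⟨img H v, F.mem v hv hvt⟩ : ↥L) ∈ invBase L :=
  ⟨mem_stabilizer_iff.mpr (fix_base.mpr hvH), fun e => F.pt.img_ne_one hv hvt (congrArg Subtype.val e),
    Subtype.ext (F.pt.img_inv hv hvt).2⟩

/-- The images of the involutions of `H` commute. -/
theorem img_comm {v w : X} (hv : IsInv v) (hvH : v ∈ H) (hw : IsInv w) (hwH : w ∈ H) :
    Commute (img H v) (img H w) := by
  haveI := F.faithful
  by_cases hvt : v = t
  · rw [hvt, F.pt.img_t]; exact Commute.one_left _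
  by_cases hwt : w = t
  · rw [hwt, F.pt.img_t]; exact Commute.one_right _
  obtain ⟨τ, Q, hS, -⟩ := F.setup
  exact congrArg Subtype.val
    (SuzukiRankOne.invol_comm hS F.oneFix.four (F.mem_base hv hvt hvH) (F.mem_base hw hwt hwH))

theorem squaresEq : SquaresEq t := by
  intro p q hp hq hw
  by_contra hwt
  have hpt : p ≠ t := fun e => hw.1 (by rw [e, (F.pt.central q).mul_mul_mul_comm, F.pt.inv.2, hq.2, one_mul])
  have hqt : q ≠ t := fun e => hw.1 (by rw [e, (F.pt.central p).symm.mul_mul_mul_comm, F.pt.inv.2, hp.2, one_mul])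
  have h4 : (p * q) * (p * q) * ((p * q) * (p * q)) = 1 := hw.2
  have hcp : p * ((p * q) * (p * q)) = (p * q) * (p * q) * p := by
    calc p * ((p * q) * (p * q)) = ((q * p) * (q * p)) * p := by
          simp only [mul_assoc, hp.2, mul_one, ← mul_assoc p p, one_mul]
      _ = ((p * q) * (p * q))⁻¹ * p := by rw [mul_inv_rev, mul_inv_rev, hp.inv, hq.inv]
      _ = _ := by rw [inv_eq_of_mul_eq_one_right h4]
  have hcq : q * ((p * q) * (p * q)) = (p * q) * (p * q) * q := by
    calc q * ((p * q) * (p * q)) = ((q * p) * (q * p)) * q := by simp only [mul_assoc]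
      _ = ((p * q) * (p * q))⁻¹ * q := by rw [mul_inv_rev, mul_inv_rev, hp.inv, hq.inv]
      _ = _ := by rw [inv_eq_of_mul_eq_one_right h4]
  obtain ⟨c, hc⟩ := (F.pt.one_fix hw hwt).exists
  induction c using QuotientGroup.induction_on with
  | _ g =>
    have hpc := F.pt.commute_fix hw hwt hc hcp
    have hqc := F.pt.commute_fix hw hwt hc hcq
    have hcomm := F.img_comm (v := g⁻¹ * p * g) (w := g⁻¹ * q * g) (by simpa using hp.conj g⁻¹) (fix_iff.mp hpc)
      (by simpa using hq.conj g⁻¹) (fix_iff.mp hqc)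
    have e1 : ∀ x : X, img H (g⁻¹ * x * g) = (img H g)⁻¹ * img H x * img H g := fun x => by
      rw [map_mul, map_mul, map_inv]
    have hcomm' : Commute (img H p) (img H q) := by
      have h5 := hcomm.eq
      rw [e1, e1] at h5
      simp only [mul_assoc, mul_inv_cancel_left] at h5
      have h6 := mul_left_cancel h5
      rw [← mul_assoc, ← mul_assoc] at h6
      exact mul_right_cancel h6
    refine F.pt.img_ne_one hw hwt ?_
    rw [map_mul, map_mul, hcomm'.symm.mul_mul_mul_comm, ← map_mul, hp.2, ← map_mul, hq.2, map_one, one_mul]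

end Frame

end CfsgLib.CoreKill.Local
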